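import Cfsg.Agent.OddHalf.D7F4Ex.Loc
import Mathlib
import Cfsg.Agent.OddHalf.D7Ex.Norm

-- merged: Cfsg.Agent.OddHalf.D7F4Ex.Irr
section

/-!
# `P` is irreducible on `Q/V` and on `V/X`; `Hom_P(Q/V, V/X) = Hom_P(V/X, X) = 0`, `H^0(P, Hom(Q/V, X)/Inn) = 0`
-/

set_option autoImplicit false
set_option linter.unusedSectionVars false
set_option linter.style.haveILetI false

namespace Cfsg.Agent.OddHalf.D7F4Ex.Loc

open Subgroup

variable {F : Type*} [Field F] {G : Type*} [Group G] {x0 : F → G} {v : J → F → G} {z : Sp → F → G} {c : J → F → G}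
  {l : J → J → F → G} {th : (Fin 3 → Fˣ) →* G}

section

variable (L : Loc x0 v z c l th)

include L

/-- `V` as a commutative group -/
@[reducible] def commV : CommGroup (Vs x0 v) :=
  { (inferInstance : Group (Vs x0 v)) with mul_comm := fun x y => Subtype.ext (L.VV (z := z) x.2 y.2) }

/-- the product of the `v j (ω j)` -/
def vv (ω : J → F) : Vs x0 v :=
  letI := L.commV
  ∏ j, (⟨v j (ω j), v_mem j _⟩ : Vs x0 v)

theorem vv_add (ω ω' : J → F) : (L.vv (ω + ω') : G) = L.vv ω * L.vv ω' := by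
  letI := L.commV
  have h : L.vv (ω + ω') = L.vv ω * L.vv ω' := by
    unfold vv
    rw [← Finset.prod_mul_distrib]
    refine Finset.prod_congr rfl fun j _ => Subtype.ext ?_
    show v j ((ω + ω') j) = v j (ω j) * v j (ω' j)
    rw [Pi.add_apply, L.v_add]
  rw [h]; rfl

theorem vv_single (j : J) (a : F) : (L.vv (Pi.single j a) : G) = v j a := by
  letI := L.commV
  have h : L.vv (Pi.single j a) = (⟨v j a, v_mem j _⟩ : Vs x0 v) := by
    unfold vv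
    rw [Finset.prod_eq_single j]
    · apply Subtype.ext
      show v j ((Pi.single j a : J → F) j) = v j a
      rw [Pi.single_eq_same]
    · intro k _ hk
      apply Subtype.ext
      show v k _ = 1
      rw [Pi.single_eq_of_ne hk, zero_of_add (L.v_add k)]
    · intro h; exact absurd (Finset.mem_univ j) h
  rw [h]

theorem vv_zero : (L.vv 0 : G) = 1 := zero_of_add' L.vv_add
where
  zero_of_add' (h : ∀ ω ω' : J → F, (L.vv (ω + ω') : G) = L.vv ω * L.vv ω') : (L.vv 0 : G) = 1 := by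
    have h1 := h 0 0
    rw [add_zero] at h1
    exact (mul_eq_left.1 h1.symm)

/-- Coordinates of an element of `V`. -/
structure CoV (g : G) (r : F) (ω : J → F) : Prop where
  eq : g = x0 r * L.vv ω
  act : ∀ k u, c k u * g * (c k u)⁻¹ = x0 (u * ω (ng k)) * v k (u ^ 2 * ω (ng k)) * g

theorem exists_coV {g : G} (hg : g ∈ Vs x0 v) : ∃ r ω, L.CoV g r ω := by
  induction hg using closure_induction with
  | mem x hx =>
    rcases hx with ⟨a, rfl⟩ | ⟨j, a, rfl⟩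
    · refine ⟨a, 0, ⟨by rw [L.vv_zero, mul_one], fun k u => ?_⟩⟩
      rw [Pi.zero_apply, mul_zero, mul_zero, zero_of_add L.x0_add, zero_of_add (L.v_add k), one_mul, one_mul,
        ← L.x0_c, mul_inv_cancel_right]
    · refine ⟨0, Pi.single j a, ⟨by rw [zero_of_add L.x0_add, one_mul, L.vv_single], fun k u => ?_⟩⟩
      by_cases h : j = ng k
      · subst h
        rw [L.c_v, Pi.single_eq_same]
      · rw [Pi.single_eq_of_ne (Ne.symm h), mul_zero, mul_zero, zero_of_add L.x0_add, zero_of_add (L.v_add k),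
          one_mul, one_mul, L.c_v' _ _ _ _ h, mul_inv_cancel_right]
  | one =>
    refine ⟨0, 0, ⟨by rw [L.vv_zero, mul_one, zero_of_add L.x0_add], fun k u => ?_⟩⟩
    rw [Pi.zero_apply, mul_zero, mul_zero, zero_of_add L.x0_add, zero_of_add (L.v_add k), one_mul, one_mul,
      mul_one, mul_inv_cancel]
  | mul x y hx hy ih1 ih2 =>
    obtain ⟨r, ω, h1⟩ := ih1
    obtain ⟨r', ω', h2⟩ := ih2
    refine ⟨r + r', ω + ω', ⟨?_, fun k u => ?_⟩⟩
    · have h3 := L.VV (z := z) (X_le_V (L.x0_mem r')) (L.vv ω).2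
      calc x * y = x0 r * L.vv ω * (x0 r' * L.vv ω') := by rw [← h1.eq, ← h2.eq]
        _ = x0 r * (L.vv ω * x0 r') * L.vv ω' := by group
        _ = x0 (r + r') * L.vv (ω + ω') := by rw [← h3, L.x0_add, L.vv_add]; group
    · have h4 : x0 (u * ω' (ng k)) * v k (u ^ 2 * ω' (ng k)) ∈ Vs x0 v :=
        mul_mem (X_le_V (L.x0_mem _)) (v_mem _ _)
      have h5 := L.VV (z := z) (mul_mem (mul_mem (X_le_V (L.x0_mem (u * ω (ng k)))) (v_mem k (u ^ 2 * ω (ng k)))) hx) h4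
      have h6 := L.x0_v (u * ω' (ng k)) k (u ^ 2 * ω (ng k))
      calc c k u * (x * y) * (c k u)⁻¹ = (c k u * x * (c k u)⁻¹) * (c k u * y * (c k u)⁻¹) := by group
        _ = x0 (u * ω (ng k)) * v k (u ^ 2 * ω (ng k)) * x * (x0 (u * ω' (ng k)) * v k (u ^ 2 * ω' (ng k))) * y := by
          rw [h1.act, h2.act]; group
        _ = x0 (u * ω' (ng k)) * v k (u ^ 2 * ω' (ng k)) * (x0 (u * ω (ng k)) * v k (u ^ 2 * ω (ng k)) * x) * y := by
          rw [h5]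
        _ = x0 (u * ω' (ng k)) * (v k (u ^ 2 * ω' (ng k)) * x0 (u * ω (ng k))) * v k (u ^ 2 * ω (ng k)) * x * y := by
          group
        _ = _ := by
          rw [← L.x0_v, Pi.add_apply, mul_add, mul_add, L.x0_add, L.v_add,
            show x0 (u * ω (ng k)) * x0 (u * ω' (ng k)) = x0 (u * ω' (ng k)) * x0 (u * ω (ng k)) by
              rw [← L.x0_add, ← L.x0_add, add_comm],
            show v k (u ^ 2 * ω (ng k)) * v k (u ^ 2 * ω' (ng k)) = v k (u ^ 2 * ω' (ng k)) * v k (u ^ 2 * ω (ng k)) by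
              rw [← L.v_add, ← L.v_add, add_comm]]
          group
  | inv x hx ih =>
    obtain ⟨r, ω, h1⟩ := ih
    have h2 : x⁻¹ = x := inv_eq_of_mul_eq_one_left (L.V2 (z := z) hx)
    rw [h2]
    exact ⟨r, ω, h1⟩

theorem v_inj {j : J} {a : F} (h : v j a = 1) : a = 0 := L.xv 0 j a (by rw [h, zero_of_add L.x0_add])

theorem CoV.unique {g : G} {r r' : F} {ω ω' : J → F} (h : L.CoV g r ω) (h' : L.CoV g r' ω') : ω = ω' := by
  funext j
  obtain ⟨k, rfl⟩ : ∃ k, j = ng k := ⟨ng j, (ng_ng j).symm⟩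
  have h1 := mul_right_cancel ((h.act k 1).symm.trans (h'.act k 1))
  rw [one_mul, one_mul, one_pow, one_mul, one_mul] at h1
  have h2 : x0 (ω (ng k) + ω' (ng k)) = v k (ω (ng k) + ω' (ng k)) := by
    have h3 : x0 (ω' (ng k)) * x0 (ω (ng k)) = v k (ω' (ng k)) * (v k (ω (ng k)))⁻¹ := by
      calc x0 (ω' (ng k)) * x0 (ω (ng k)) = (x0 (ω' (ng k)))⁻¹ * (x0 (ω (ng k)) * v k (ω (ng k))) *
            (v k (ω (ng k)))⁻¹ := by rw [inv_of_add L.two L.x0_add]; group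
        _ = _ := by rw [h1]; group
    rw [add_comm (ω (ng k)), L.x0_add, h3, inv_of_add L.two (L.v_add k), L.v_add]
  have h4 := L.xv _ _ _ h2
  have h5 := L.two (ω' (ng k))
  calc ω (ng k) = (ω (ng k) + ω' (ng k)) + ω' (ng k) := by rw [add_assoc, h5, add_zero]
    _ = ω' (ng k) := by rw [h4, zero_add]

/-- the torus in coordinates -/
theorem CoV.torus {g : G} {r : F} {ω : J → F} (h : L.CoV g r ω) (ν : Fin 3 → Fˣ) :
    L.CoV (th ν * g * (th ν)⁻¹) r (fun j => (wt ν j : F) * ω j) := by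
  obtain ⟨r', ω', h'⟩ := L.exists_coV (g := th ν * g * (th ν)⁻¹)
    (L.PV (th_mem ν) (by rw [h.eq]; exact mul_mem (X_le_V (L.x0_mem r)) (L.vv ω).2))
  have hact : ∀ k u, c k u * (th ν * g * (th ν)⁻¹) * (c k u)⁻¹ =
      x0 (u * ((wt ν (ng k) : F) * ω (ng k))) * v k (u ^ 2 * ((wt ν (ng k) : F) * ω (ng k))) *
        (th ν * g * (th ν)⁻¹) := by
    intro k u
    have e0 : wt ν (ng k) = (wt ν k)⁻¹ := by
      rcases k with ⟨k, b⟩
      cases b <;> simp [wt, ng]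
    have hw : ((wt ν k : Fˣ) : F) ≠ 0 := (wt ν k).ne_zero
    have e1 : c k u = th ν * c k (((wt ν k)⁻¹ : Fˣ) * u) * (th ν)⁻¹ := by
      rw [L.th_c, ← mul_assoc, Units.mul_inv, one_mul]
    calc c k u * (th ν * g * (th ν)⁻¹) * (c k u)⁻¹
        = th ν * (c k (((wt ν k)⁻¹ : Fˣ) * u) * g * (c k (((wt ν k)⁻¹ : Fˣ) * u))⁻¹) * (th ν)⁻¹ := by
          rw [e1]; group
      _ = (th ν * x0 ((((wt ν k)⁻¹ : Fˣ) * u) * ω (ng k)) * (th ν)⁻¹) *
          (th ν * v k ((((wt ν k)⁻¹ : Fˣ) * u) ^ 2 * ω (ng k)) * (th ν)⁻¹) * (th ν * g * (th ν)⁻¹) := by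
          rw [h.act]; group
      _ = _ := by
        rw [L.th_x0, mul_inv_cancel_right, L.th_v, e0]
        congr 3
        · ring
        · rw [Units.val_inv_eq_inv_val]; field_simp
  -- uniqueness of the coordinates from the action
  have huniq : ω' = fun j => (wt ν j : F) * ω j := by
    funext j
    obtain ⟨k, rfl⟩ : ∃ k, j = ng k := ⟨ng j, (ng_ng j).symm⟩
    have h1 := mul_right_cancel ((h'.act k 1).symm.trans (hact k 1))
    rw [one_mul, one_mul, one_pow, one_mul, one_mul] at h1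
    set α := ω' (ng k)
    set β := (wt ν (ng k) : F) * ω (ng k)
    have h2 : x0 (α + β) = v k (α + β) := by
      have h3 : x0 β * x0 α = v k β * (v k α)⁻¹ := by
        calc x0 β * x0 α = (x0 β)⁻¹ * (x0 α * v k α) * (v k α)⁻¹ := by
              rw [inv_of_add L.two L.x0_add]; group
          _ = _ := by rw [h1]; group
      rw [add_comm α, L.x0_add, h3, inv_of_add L.two (L.v_add k), L.v_add]
    have h4 := L.xv _ _ _ h2
    have h5 := L.two β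
    calc α = (α + β) + β := by rw [add_assoc, h5, add_zero]
      _ = β := by rw [h4, zero_add]
  have hvv : (th ν * L.vv ω * (th ν)⁻¹ : G) = L.vv (fun j => (wt ν j : F) * ω j) := by
    letI := L.commV
    let cg : Vs x0 v →* Vs x0 v :=
      { toFun := fun y => ⟨th ν * y * (th ν)⁻¹, L.PV (th_mem ν) y.2⟩
        map_one' := Subtype.ext (by show th ν * 1 * (th ν)⁻¹ = 1; group)
        map_mul' := fun x y => Subtype.ext (by
          show th ν * (x * y) * (th ν)⁻¹ = th ν * x * (th ν)⁻¹ * (th ν * y * (th ν)⁻¹)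
          group) }
    have h1 : cg (L.vv ω) = L.vv (fun j => (wt ν j : F) * ω j) := by
      unfold vv
      rw [map_prod]
      exact Finset.prod_congr rfl fun j _ => Subtype.ext (L.th_v ν j _)
    exact congrArg Subtype.val h1
  refine ⟨?_, hact⟩
  rw [h.eq]
  calc th ν * (x0 r * L.vv ω) * (th ν)⁻¹ = th ν * x0 r * (th ν)⁻¹ * (th ν * L.vv ω * (th ν)⁻¹) := by group
    _ = _ := by rw [L.th_x0, mul_inv_cancel_right, hvv]

theorem CoV.mem_X {g : G} {r : F} (h : L.CoV g r 0) : g = x0 r := by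
  rw [h.eq, L.vv_zero, mul_one]

theorem add_eq_zero {a b : F} (h : a + b = 0) : a = b := by
  have h1 := L.two b
  calc a = (a + b) + b := by rw [add_assoc, h1, add_zero]
    _ = b := by rw [h, zero_add]

/-- every element is a square -/
theorem exists_sqrt [Finite F] (a : F) : ∃ b : F, b ^ 2 = a := by
  have hinj : Function.Injective (fun b : F => b ^ 2) := by
    intro b b' h
    have h1 : (b + b') * (b + b') = 0 := by
      have h2 : b ^ 2 = b' ^ 2 := h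
      calc (b + b') * (b + b') = b ^ 2 + b' ^ 2 + (b * b' + b * b') := by ring
        _ = 0 := by rw [L.two, h2, L.two, add_zero]
    exact L.add_eq_zero (mul_self_eq_zero.1 h1)
  exact (Finite.injective_iff_surjective.1 hinj) a

theorem exists_sqrt_unit [Finite F] (a : Fˣ) : ∃ b : Fˣ, b ^ 2 = a := by
  obtain ⟨b, hb⟩ := L.exists_sqrt (a : F)
  have h0 : b ≠ 0 := by
    rintro rfl
    apply a.ne_zero
    rw [← hb]; ring
  exact ⟨Units.mk0 b h0, Units.ext (by rw [Units.val_pow_eq_pow_val, Units.val_mk0, hb])⟩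

/-- the torus moves `a` to `b` on the root group `j` -/
theorem exists_wt [Finite F] (j : J) (a : Fˣ) : ∃ ν : Fin 3 → Fˣ, wt ν j = a := by
  obtain ⟨b, hb⟩ := L.exists_sqrt_unit a
  rcases j with ⟨k, s⟩
  cases s
  · exact ⟨fun _ => b⁻¹, by simp [wt, hb]⟩
  · exact ⟨fun _ => b, by simp [wt, hb]⟩

/-- `P` is irreducible on `V / X`. -/
theorem irrV [Finite F] {R : Subgroup G} (h1 : Xs x0 ≤ R) (h2 : R ≤ Vs x0 v)
    (h3 : ∀ p ∈ Ps x0 v z c l th, ∀ r ∈ R, p * r * p⁻¹ ∈ R) : R = Xs x0 ∨ R = Vs x0 v := by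
  by_cases hR : R ≤ Xs x0
  · exact Or.inl (le_antisymm hR h1)
  right
  apply le_antisymm h2
  obtain ⟨g, hg, hgX⟩ := SetLike.not_le_iff_exists.1 hR
  obtain ⟨r, ω, hω⟩ := L.exists_coV (h2 hg)
  have h4 : ω ≠ 0 := by
    rintro rfl
    exact hgX (L.mem_X.2 ⟨r, hω.mem_X⟩)
  obtain ⟨j, hj⟩ := Function.ne_iff.1 h4
  -- some `v k w ∈ R`
  have h5 : v (ng j) (ω j) ∈ R := by
    have h6 := h3 _ (c_mem (ng j) 1) g hg
    rw [hω.act, one_mul, one_pow, one_mul, ng_ng] at h6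
    have h7 := mul_mem (mul_mem (inv_mem (h1 (L.x0_mem (ω j)))) h6) (inv_mem hg)
    have e : (x0 (ω j))⁻¹ * (x0 (ω j) * v (ng j) (ω j) * g) * g⁻¹ = v (ng j) (ω j) := by group
    rwa [e] at h7
  have hall : ∀ k w, w ≠ 0 → v k w ∈ R → ∀ u, v k u ∈ R := by
    intro k w hw hk u
    by_cases hu : u = 0
    · rw [hu, zero_of_add (L.v_add k)]; exact one_mem _
    obtain ⟨ν, hν⟩ := L.exists_wt k (Units.mk0 u hu * (Units.mk0 w hw)⁻¹)
    have h6 := h3 _ (th_mem ν) _ hk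
    rw [L.th_v, hν, Units.val_mul, Units.val_mk0, Units.val_inv_eq_inv_val, Units.val_mk0, mul_assoc,
      inv_mul_cancel₀ hw, mul_one] at h6
    exact h6
  have hng : ∀ k, (∀ u, v k u ∈ R) → ∀ u, v (ng k) u ∈ R := by
    intro k hk
    apply hall _ 1 one_ne_zero
    have h6 := h3 _ (c_mem (ng k) 1) _ (hk 1)
    have h7 := L.c_v (ng k) 1 1
    rw [ng_ng, one_mul, one_pow, one_mul] at h7
    rw [h7] at h6
    have h8 := mul_mem (mul_mem (inv_mem (h1 (L.x0_mem 1))) h6) (inv_mem (hk 1))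
    have e : (x0 1)⁻¹ * (x0 1 * v (ng k) 1 * v k 1) * (v k 1)⁻¹ = v (ng k) 1 := by group
    rwa [e] at h8
  have hst : ∀ k m, k.1 ≠ m.1 → (∀ u, v k u ∈ R) → ∀ u, v m u ∈ R := by
    intro k m hkm hk u
    have h6 := h3 _ (l_mem (j := ng k) (k := m) hkm u) _ (hk 1)
    have h7 := L.l_v (ng k) m u 1 hkm
    rw [ng_ng] at h7
    rw [h7, mul_one] at h6
    have h8 := mul_mem h6 (inv_mem (hk 1))
    rwa [mul_inv_cancel_right] at h8
  have h8 : ∀ m u, v m u ∈ R := by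
    have h9 := hall _ _ hj h5
    have h10 : ∀ m, m.1 ≠ (ng j).1 → ∀ u, v m u ∈ R := fun m hm => hst _ m (Ne.symm hm) h9
    intro m
    by_cases hm : m.1 = (ng j).1
    · -- through a third index
      obtain ⟨m', hm'⟩ : ∃ m' : J, m'.1 ≠ (ng j).1 := by
        obtain ⟨i, hi⟩ : ∃ i : Fin 3, i ≠ (ng j).1 := exists_ne _
        exact ⟨(i, true), hi⟩
      exact hst m' m (by rw [hm]; exact hm') (h10 m' hm')
    · exact h10 m hm
  rw [Vs, closure_le]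
  rintro g (⟨a, rfl⟩ | ⟨j, a, rfl⟩)
  · exact h1 (L.x0_mem a)
  · exact h8 j a

/-! ### `Q / V` -/

/-- the elements of `Q` with coordinates `a` modulo `V` -/
def CoQ (x0 : F → G) (z : Sp → F → G) (q : G) (a : Sp → F) : Prop :=
  ∀ i b, q * z i b * q⁻¹ = x0 (a (op i) * b) * z i b

theorem CoQ.mul {q q' : G} {a a' : Sp → F} (hq : q ∈ Qs x0 v z) (h : CoQ x0 z q a) (h' : CoQ x0 z q' a') :
    CoQ x0 z (q * q') (a + a') := by
  intro i b
  have h1 := L.XP (c := c) (l := l) (th := th) (L.x0_mem (a' (op i) * b)) (Q_le_P hq)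
  calc q * q' * z i b * (q * q')⁻¹ = q * (q' * z i b * q'⁻¹) * q⁻¹ := by group
    _ = (q * x0 (a' (op i) * b)) * z i b * q⁻¹ := by rw [h' i b]; group
    _ = x0 (a' (op i) * b) * (q * z i b * q⁻¹) := by rw [← h1]; group
    _ = x0 ((a + a') (op i) * b) * z i b := by
      rw [h i b, ← mul_assoc, ← L.x0_add, Pi.add_apply, add_mul, add_comm]

theorem coQ_single (i : Sp) (a : F) : CoQ x0 z (z i a) (Pi.single i a) := by
  intro j b
  rw [L.z_conj]
  by_cases h : j = op i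
  · rw [if_pos h, h, op_op, Pi.single_eq_same]
  · rw [if_neg h, Pi.single_eq_of_ne, zero_mul]
    intro h2; apply h; rw [← h2, op_op]

theorem coQ_V {y : G} (hy : y ∈ Vs x0 v) : CoQ x0 z y 0 := by
  intro i b
  rw [Pi.zero_apply, zero_mul, zero_of_add L.x0_add, one_mul, L.VQ hy (z_mem i b), mul_inv_cancel_right]

theorem CoQ.unique {q : G} {a a' : Sp → F} (h : CoQ x0 z q a) (h' : CoQ x0 z q a') : a = a' :=
  L.beta_unique h h'

/-- every vector is realised -/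
theorem exists_coQ (a : Sp → F) : ∃ q ∈ Qs x0 v z, CoQ x0 z q a := by
  classical
  have h1 : ∀ s : Finset Sp, ∃ q ∈ Qs x0 v z, CoQ x0 z q (∑ i ∈ s, Pi.single i (a i)) := by
    intro s
    induction s using Finset.induction_on with
    | empty => exact ⟨1, one_mem _, by rw [Finset.sum_empty]; exact L.coQ_V (one_mem _)⟩
    | insert i s hi ih =>
      obtain ⟨q, hq, hqa⟩ := ih
      exact ⟨z i (a i) * q, mul_mem (z_mem _ _) hq, by
        rw [Finset.sum_insert hi]; exact CoQ.mul L (z_mem _ _) (L.coQ_single i (a i)) hqa⟩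
  obtain ⟨q, hq, hqa⟩ := h1 Finset.univ
  rw [Finset.univ_sum_single] at hqa
  exact ⟨q, hq, hqa⟩

/-- `C_Q(Q) = V` : an element with coordinates `0` lies in `V` -/
theorem mem_V_of_coQ {q : G} (hq : q ∈ Qs x0 v z) (h : CoQ x0 z q 0) : q ∈ Vs x0 v := by
  classical
  haveI : ((Vs x0 v).subgroupOf (Qs x0 v z)).Normal := ⟨by
    rintro ⟨y, hy⟩ hyV ⟨g, hg⟩
    rw [mem_subgroupOf] at hyV ⊢
    exact L.PV (z := z) (c := c) (l := l) (th := th) (Q_le_P hg) hyV⟩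
  let B := Qs x0 v z ⧸ (Vs x0 v).subgroupOf (Qs x0 v z)
  letI : CommGroup B := { (inferInstance : Group B) with
    mul_comm := by
      intro x y
      induction x using QuotientGroup.induction_on with
      | H x =>
      induction y using QuotientGroup.induction_on with
      | H y =>
      rw [← QuotientGroup.mk_mul, ← QuotientGroup.mk_mul, eq_comm, QuotientGroup.eq, mem_subgroupOf]
      have h1 := X_le_V (v := v) (L.QQ (inv_mem x.2) (inv_mem y.2))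
      have e : (((y * x)⁻¹ * (x * y) : Qs x0 v z) : G) =
          (x : G)⁻¹ * (y : G)⁻¹ * (x : G)⁻¹⁻¹ * (y : G)⁻¹⁻¹ := by
        show ((y : G) * x)⁻¹ * (x * y) = _
        group
      rw [e]; exact h1 }
  let zb : Sp → F → B := fun i a => ((⟨z i a, z_mem i a⟩ : Qs x0 v z) : B)
  have hzb : ∀ i a b, zb i (a + b) = zb i a * zb i b := by
    intro i a b
    show ((⟨z i (a + b), _⟩ : Qs x0 v z) : B) = ((⟨z i a, _⟩ : Qs x0 v z) : B) * ((⟨z i b, _⟩ : Qs x0 v z) : B)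
    rw [← QuotientGroup.mk_mul]
    congr 1
    exact Subtype.ext (L.z_add i a b)
  have hzb0 : ∀ i, zb i 0 = 1 := fun i => zero_of_add (hzb i)
  have key : ∀ q (hq : q ∈ Qs x0 v z), ∃ a : Sp → F, CoQ x0 z q a ∧
      ((⟨q, hq⟩ : Qs x0 v z) : B) = ∏ i, zb i (a i) := by
    intro q hq
    induction hq using closure_induction with
    | mem x hx =>
      rcases hx with hx | ⟨i, a, rfl⟩
      · have hx' : x ∈ Vs x0 v := subset_closure hx
        refine ⟨0, L.coQ_V hx', ?_⟩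
        have h1 : ∏ i, zb i ((0 : Sp → F) i) = 1 := Finset.prod_eq_one fun i _ => hzb0 i
        rw [h1]
        exact (QuotientGroup.eq_one_iff _).2 hx'
      · refine ⟨Pi.single i a, L.coQ_single i a, ?_⟩
        rw [Finset.prod_eq_single i]
        · rw [Pi.single_eq_same]
        · intro k _ hk
          rw [Pi.single_eq_of_ne hk, hzb0]
        · intro h; exact absurd (Finset.mem_univ i) h
    | one =>
      refine ⟨0, L.coQ_V (one_mem _), ?_⟩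
      have h1 : ∏ i, zb i ((0 : Sp → F) i) = 1 := Finset.prod_eq_one fun i _ => hzb0 i
      rw [h1]; rfl
    | mul x y hx hy ih1 ih2 =>
      obtain ⟨a, ha, ha2⟩ := ih1
      obtain ⟨a', ha', ha2'⟩ := ih2
      refine ⟨a + a', CoQ.mul L hx ha ha', ?_⟩
      have h1 : ((⟨x * y, mul_mem hx hy⟩ : Qs x0 v z) : B) =
          ((⟨x, hx⟩ : Qs x0 v z) : B) * ((⟨y, hy⟩ : Qs x0 v z) : B) := rfl
      rw [h1, ha2, ha2', ← Finset.prod_mul_distrib]
      exact Finset.prod_congr rfl fun i _ => (hzb i _ _).symm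
    | inv x hx ih =>
      obtain ⟨a, ha, ha2⟩ := ih
      have h1 : x⁻¹ = x * (x * x)⁻¹ := by group
      have h2 := L.Q2 hx
      have h3 := CoQ.mul L hx ha (L.coQ_V (inv_mem h2))
      rw [add_zero, ← h1] at h3
      refine ⟨a, h3, ?_⟩
      rw [← ha2, QuotientGroup.eq, mem_subgroupOf]
      show x⁻¹⁻¹ * x ∈ Vs x0 v
      rw [inv_inv]; exact h2
  obtain ⟨a, ha, ha2⟩ := key q hq
  have h0 : a = 0 := CoQ.unique L ha h
  rw [h0] at ha2
  have h1 : ∏ i, zb i ((0 : Sp → F) i) = 1 := Finset.prod_eq_one fun i _ => hzb0 i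
  rw [h1] at ha2
  have h2 := (QuotientGroup.eq_one_iff (⟨q, hq⟩ : Qs x0 v z)).1 ha2
  exact h2

theorem ZQ {q : G} (hq : q ∈ Qs x0 v z) (h : ∀ y ∈ Qs x0 v z, q * y = y * q) : q ∈ Vs x0 v := by
  refine L.mem_V_of_coQ (c := c) (l := l) (th := th) hq fun i b => ?_
  rw [Pi.zero_apply, zero_mul, zero_of_add L.x0_add, one_mul, h _ (z_mem i b), mul_inv_cancel_right]

theorem coQ_of_mem {q : G} (hq : q ∈ Qs x0 v z) : ∃ a, CoQ x0 z q a := L.exists_beta hq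

/-- conjugation in coordinates -/
theorem CoQ.conj_c {q : G} {a : Sp → F} (h : CoQ x0 z q a) (k : J) (u : F) :
    CoQ x0 z (c k u * q * (c k u)⁻¹) (fun i => if i k.1 = k.2 then a i + u * a (fl i k.1) else a i) := by
  intro i b
  have hinv := inv_of_add L.two (L.c_add k) u
  have hX : ∀ r, c k u * x0 r * (c k u)⁻¹ = x0 r := fun r => by rw [← L.x0_c, mul_inv_cancel_right]
  by_cases h1 : i k.1 = k.2
  · -- `c` commutes with `z i b`
    have h2 := L.c_z' k u i b h1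
    have h3 : (c k u)⁻¹ * z i b * c k u = z i b := by rw [mul_assoc, ← h2, inv_mul_cancel_left]
    have h4 : ¬ (op i) k.1 = k.2 := by
      rw [← h1]; simp [op]
    beta_reduce
    rw [if_neg h4]
    calc c k u * q * (c k u)⁻¹ * z i b * (c k u * q * (c k u)⁻¹)⁻¹
        = c k u * (q * ((c k u)⁻¹ * z i b * c k u) * q⁻¹) * (c k u)⁻¹ := by group
      _ = (c k u * x0 (a (op i) * b) * (c k u)⁻¹) * (c k u * z i b * (c k u)⁻¹) := by rw [h3, h i b]; group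
      _ = _ := by rw [hX, h2, mul_inv_cancel_right]
  · have h2 := L.c_z k u i b h1
    have h3 : (c k u)⁻¹ * z i b * c k u = z (fl i k.1) (u * b) * z i b := by
      rw [hinv] at h2 ⊢; exact h2
    have h4 : (op i) k.1 = k.2 := by
      rcases k with ⟨k, s⟩
      cases s <;> simp_all [op]
    beta_reduce
    rw [if_pos h4]
    have h5 : op (fl i k.1) = fl (op i) k.1 := by
      funext m; by_cases hm : m = k.1 <;> simp [op, fl, hm]
    calc c k u * q * (c k u)⁻¹ * z i b * (c k u * q * (c k u)⁻¹)⁻¹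
        = c k u * (q * ((c k u)⁻¹ * z i b * c k u) * q⁻¹) * (c k u)⁻¹ := by group
      _ = c k u * ((q * z (fl i k.1) (u * b) * q⁻¹) * (q * z i b * q⁻¹)) * (c k u)⁻¹ := by rw [h3]; group
      _ = c k u * (x0 (a (fl (op i) k.1) * (u * b)) * z (fl i k.1) (u * b) * (x0 (a (op i) * b) * z i b)) *
          (c k u)⁻¹ := by rw [h (fl i k.1), h i b, h5]
      _ = c k u * (x0 (a (fl (op i) k.1) * (u * b)) * (z (fl i k.1) (u * b) * x0 (a (op i) * b)) * z i b) *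
          (c k u)⁻¹ := by group
      _ = c k u * (x0 (a (fl (op i) k.1) * (u * b)) * (x0 (a (op i) * b) * z (fl i k.1) (u * b)) * z i b) *
          (c k u)⁻¹ := by rw [← L.x0_z]
      _ = (c k u * (x0 (a (fl (op i) k.1) * (u * b)) * x0 (a (op i) * b)) * (c k u)⁻¹) *
          ((c k u * z (fl i k.1) (u * b) * (c k u)⁻¹) * (c k u * z i b * (c k u)⁻¹)) := by group
      _ = x0 ((a (op i) + u * a (fl (op i) k.1)) * b) * z i b := by
        have h6 : (fl i k.1) k.1 = k.2 := by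
          rw [fl_self]
          rcases k with ⟨k, s⟩
          cases s <;> simp_all
        rw [← L.x0_add, hX, L.c_z' k u (fl i k.1) (u * b) h6, mul_inv_cancel_right, h2, ← mul_assoc (z _ _),
          self_of_add L.two (L.z_add _), one_mul]
        congr 2; ring

end

/-- induction over the spin weights -/
theorem sp_ind {A : Sp → Prop} (h0 : A (fun _ => true)) (h : ∀ i k, A i → A (fl i k)) (i : Sp) : A i := by
  have step : ∀ (i : Sp) (k : Fin 3) (b : Bool), A i → A (fun m => if m = k then b else i m) := by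
    intro i k b hi
    by_cases hb : b = i k
    · have : (fun m => if m = k then b else i m) = i := by
        funext m; by_cases hm : m = k
        · rw [if_pos hm, hb, hm]
        · rw [if_neg hm]
      rwa [this]
    · have : (fun m => if m = k then b else i m) = fl i k := by
        funext m; by_cases hm : m = k
        · rw [if_pos hm, hm, fl_self]
          revert hb; cases b <;> cases (i k) <;> simp
        · rw [if_neg hm, fl_ne _ hm]
      rw [this]; exact h i k hi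
  have h1 := step _ 2 (i 2) (step _ 1 (i 1) (step _ 0 (i 0) h0))
  have : (fun m : Fin 3 => if m = 2 then i 2 else if m = 1 then i 1 else if m = 0 then i 0 else true) = i := by
    funext m; fin_cases m <;> simp
  rwa [this] at h1

section

variable (L : Loc x0 v z c l th)

include L

theorem coQ_inv {q : G} {a : Sp → F} (hq : q ∈ Qs x0 v z) (h : CoQ x0 z q a) : CoQ x0 z q⁻¹ a := by
  have h1 : q⁻¹ = q * (q * q)⁻¹ := by group
  have h3 := CoQ.mul L hq h (L.coQ_V (inv_mem (L.Q2 hq)))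
  rwa [add_zero, ← h1] at h3

theorem exists_ws (i : Sp) (a : Fˣ) : ∃ ν : Fin 3 → Fˣ, ws ν i = a := by
  refine ⟨fun k => if k = 0 then (if i 0 then a else a⁻¹) else 1, ?_⟩
  unfold ws
  rw [Fin.prod_univ_three]
  cases h0 : i 0 <;> cases h1 : i 1 <;> cases h2 : i 2 <;> simp

/-- `P` is irreducible on `Q / V`. -/
theorem irrQ {R : Subgroup G} (h1 : Vs x0 v ≤ R) (h2 : R ≤ Qs x0 v z)
    (h3 : ∀ p ∈ Ps x0 v z c l th, ∀ r ∈ R, p * r * p⁻¹ ∈ R) : R = Vs x0 v ∨ R = Qs x0 v z := by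
  by_cases hR : R ≤ Vs x0 v
  · exact Or.inl (le_antisymm hR h1)
  right
  apply le_antisymm h2
  obtain ⟨g, hg, hgV⟩ := SetLike.not_le_iff_exists.1 hR
  have claim : ∀ n : ℕ, n ≤ 3 → ∃ q ∈ R, ∃ a, CoQ x0 z q a ∧ a ≠ 0 ∧
      ∀ i, a i ≠ 0 → ∀ k : Fin 3, k.val < n → i k = true := by
    intro n
    induction n with
    | zero =>
      intro _
      obtain ⟨a, ha⟩ := L.coQ_of_mem (h2 hg)
      refine ⟨g, hg, a, ha, ?_, fun i _ k hk => absurd hk (Nat.not_lt_zero _)⟩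
      rintro rfl
      exact hgV (L.mem_V_of_coQ (h2 hg) ha)
    | succ n ih =>
      intro hn
      obtain ⟨q, hq, a, ha, ha0, hsup⟩ := ih (by omega)
      let k : Fin 3 := ⟨n, by omega⟩
      have h4 := CoQ.conj_c L ha (k, true) 1
      have h5 := CoQ.mul L (L.PQ (c_mem (k, true) 1) (h2 hq)) h4 (L.coQ_inv (h2 hq) ha)
      set a' : Sp → F := (fun i => if i (k, true).1 = (k, true).2 then a i + 1 * a (fl i (k, true).1) else a i) + a
        with ha'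
      have h6 : ∀ i, a' i = if i k = true then a (fl i k) else 0 := by
        intro i
        rw [ha', Pi.add_apply]
        show (if i k = true then a i + 1 * a (fl i k) else a i) + a i = _
        by_cases h : i k = true
        · rw [if_pos h, if_pos h, one_mul, add_comm (a i), add_assoc, L.two, add_zero]
        · rw [if_neg h, if_neg h, L.two]
      by_cases h7 : a' = 0
      · refine ⟨q, hq, a, ha, ha0, fun i hi m hm => ?_⟩
        rcases Nat.lt_succ_iff_lt_or_eq.1 hm with h8 | h8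
        · exact hsup i hi m h8
        · have hmk : m = k := Fin.ext h8
          rw [hmk]
          by_contra h9
          apply hi
          have h10 := congrFun h7 (fl i k)
          rw [h6, fl_self, fl_fl, if_pos (by simpa using h9), Pi.zero_apply] at h10
          exact h10
      · refine ⟨_, mul_mem (h3 _ (c_mem (k, true) 1) q hq) (inv_mem hq), a', h5, h7, fun i hi m hm => ?_⟩
        rw [h6] at hi
        have h8 : i k = true := by
          by_contra h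
          exact hi (if_neg h)
        rw [if_pos h8] at hi
        rcases Nat.lt_succ_iff_lt_or_eq.1 hm with h9 | h9
        · have h10 := hsup _ hi m h9
          rwa [fl_ne] at h10
          intro h; rw [h] at h9; exact absurd h9 (lt_irrefl _)
        · have hmk : m = k := Fin.ext h9
          rw [hmk]; exact h8
  obtain ⟨q, hq, a, ha, ha0, hsup⟩ := claim 3 le_rfl
  set top : Sp := fun _ => true with htop
  have h4 : ∀ i, i ≠ top → a i = 0 := by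
    intro i hi
    by_contra h
    exact hi (funext fun k => hsup i h k k.2)
  have h5 : a = Pi.single top (a top) := by
    funext i
    by_cases h : i = top
    · rw [h, Pi.single_eq_same]
    · rw [Pi.single_eq_of_ne h, h4 i h]
  have h6 : a top ≠ 0 := by
    intro h
    apply ha0
    rw [h5, h, Pi.single_zero]
  have h7 : z top (a top) ∈ R := by
    have h8 := CoQ.mul L (h2 hq) ha (L.coQ_single top (a top))
    rw [← h5] at h8
    have h9 : a + a = 0 := funext fun i => L.two (a i)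
    rw [h9] at h8
    have h10 := L.mem_V_of_coQ (mul_mem (h2 hq) (z_mem _ _)) h8
    have h11 := mul_mem (inv_mem hq) (h1 h10)
    rwa [inv_mul_cancel_left] at h11
  have hz : ∀ i w, w ≠ 0 → z i w ∈ R → ∀ u, z i u ∈ R := by
    intro i w hw hi u
    by_cases hu : u = 0
    · rw [hu, zero_of_add (L.z_add i)]; exact one_mem _
    obtain ⟨ν, hν⟩ := L.exists_ws i (Units.mk0 u hu * (Units.mk0 w hw)⁻¹)
    have h8 := h3 _ (th_mem ν) _ hi
    rw [L.th_z, hν, Units.val_mul, Units.val_mk0, Units.val_inv_eq_inv_val, Units.val_mk0, mul_assoc,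
      inv_mul_cancel₀ hw, mul_one] at h8
    exact h8
  have hall : ∀ i, ∀ u, z i u ∈ R := by
    intro i
    refine sp_ind (A := fun i => ∀ u, z i u ∈ R) (hz top _ h6 h7) (fun i k hi u => ?_) i
    have h8 := h3 _ (c_mem (k, !i k) u) _ (hi 1)
    rw [L.c_z _ _ _ _ (by simp), mul_one] at h8
    have h9 := mul_mem h8 (inv_mem (hi 1))
    rwa [mul_inv_cancel_right] at h9
  rw [Qs, closure_le]
  rintro g (hg | ⟨i, a, rfl⟩)
  · exact h1 (subset_closure hg)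
  · exact hall i a

/-- one step for `Hom_P(Q/V, V/X) = 0` -/
theorem step_hQ {d : G} (hd1 : ∀ p ∈ Ps x0 v z c l th, d * p * d⁻¹ * p⁻¹ ∈ Qs x0 v z) {y m : G}
    (hy : y ∈ Qs x0 v z) (hm : m ∈ Vs x0 v) (hdy : d * y * d⁻¹ = m * y) (k : J) (u : F) :
    ∃ x ∈ Xs x0, d * (c k u * y * (c k u)⁻¹ * y⁻¹) * d⁻¹ =
      x * (c k u * m * (c k u)⁻¹ * m⁻¹) * (c k u * y * (c k u)⁻¹ * y⁻¹) := by
  have hC := c_mem (x0 := x0) (v := v) (z := z) (c := c) (l := l) (th := th) k u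
  set C := c k u
  have hq1 := hd1 C hC
  set q1 := d * C * d⁻¹ * C⁻¹ with hq1d
  have e1 : d * C = q1 * C * d := by rw [hq1d]; group
  have e2 : d * y = m * y * d := by rw [← hdy]; group
  have hY : C * y * C⁻¹ ∈ Qs x0 v z := L.PQ hC hy
  have hm' : C * m * C⁻¹ ∈ Vs x0 v := L.PV hC hm
  refine ⟨q1 * (C * y * C⁻¹) * q1⁻¹ * (C * y * C⁻¹)⁻¹, L.QQ hq1 hY, ?_⟩
  have hx := L.QQ hq1 hY
  set Y := C * y * C⁻¹ with hYd
  set m' := C * m * C⁻¹ with hm'd
  set x := q1 * Y * q1⁻¹ * Y⁻¹ with hxd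
  have c1 := L.VQ hm' hq1
  have c2 := L.XP hx (Q_le_P (V_le_Q hm') : m' ∈ Ps x0 v z c l th)
  have c3 := L.VQ (inv_mem hm) (mul_mem hY (inv_mem hy))
  have e3 : d * C * d⁻¹ = q1 * C := by rw [hq1d]; group
  have e4 : q1 * Y * q1⁻¹ = x * Y := by rw [hxd]; group
  calc d * (Y * y⁻¹) * d⁻¹ = (d * C * d⁻¹) * (d * y * d⁻¹) * (d * C * d⁻¹)⁻¹ * (d * y * d⁻¹)⁻¹ := by
        rw [hYd]; group
    _ = q1 * (C * m * C⁻¹) * (C * y * C⁻¹) * q1⁻¹ * y⁻¹ * m⁻¹ := by rw [e3, hdy]; group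
    _ = (q1 * m') * Y * q1⁻¹ * y⁻¹ * m⁻¹ := by rw [← hm'd, ← hYd]
    _ = m' * (q1 * Y * q1⁻¹) * (y⁻¹ * m⁻¹) := by rw [← c1]; group
    _ = (m' * x) * (Y * y⁻¹ * m⁻¹) := by rw [e4]; group
    _ = x * m' * (m⁻¹ * (Y * y⁻¹)) := by rw [← c2, ← c3]
    _ = x * (m' * m⁻¹) * (Y * y⁻¹) := by group

/-- `Hom_P(Q/V, V/X) = 0`. -/
theorem hQ {d : G} (hd1 : ∀ p ∈ Ps x0 v z c l th, d * p * d⁻¹ * p⁻¹ ∈ Qs x0 v z)
    (hd2 : ∀ q ∈ Qs x0 v z, d * q * d⁻¹ * q⁻¹ ∈ Vs x0 v) :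
    ∃ q ∈ Qs x0 v z, q ∉ Vs x0 v ∧ d * q * d⁻¹ * q⁻¹ ∈ Xs x0 := by
  set i0 : Sp := fun k => if k = 2 then true else false with hi0
  -- `y0 = z i0 1`, `y1 = [c 1, y0]`, `y2 = [c 0, y1]`
  have hy0 : z i0 1 ∈ Qs x0 v z := z_mem _ _
  have hm0 := hd2 _ hy0
  obtain ⟨x1, hx1, e1⟩ := L.step_hQ hd1 hy0 hm0 (by group) (1, true) 1
  have f1 : c (1, true) 1 * z i0 1 * (c (1, true) 1)⁻¹ * (z i0 1)⁻¹ = z (fl i0 1) 1 := by
    rw [L.c_z _ _ _ _ (by simp [hi0]), one_mul, mul_inv_cancel_right]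
  rw [f1] at e1
  obtain ⟨r, ω, hω⟩ := L.exists_coV hm0
  have h1 := hω.act (1, true) 1
  set m0 := d * z i0 1 * d⁻¹ * (z i0 1)⁻¹
  have h2 : c (1, true) 1 * m0 * (c (1, true) 1)⁻¹ * m0⁻¹ =
      x0 (1 * ω (ng (1, true))) * v (1, true) (1 ^ 2 * ω (ng (1, true))) := by
    rw [h1, mul_inv_cancel_right]
  rw [h2] at e1
  set m1 := x1 * (x0 (1 * ω (ng (1, true))) * v (1, true) (1 ^ 2 * ω (ng (1, true)))) with hm1
  have hm1V : m1 ∈ Vs x0 v := mul_mem (X_le_V hx1) (mul_mem (X_le_V (L.x0_mem _)) (v_mem _ _))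
  obtain ⟨x2, hx2, e2⟩ := L.step_hQ hd1 (z_mem (fl i0 1) 1) hm1V e1 (0, true) 1
  have f2 : c (0, true) 1 * z (fl i0 1) 1 * (c (0, true) 1)⁻¹ * (z (fl i0 1) 1)⁻¹ = z (fl (fl i0 1) 0) 1 := by
    rw [L.c_z _ _ _ _ (by simp [hi0, fl]), one_mul, mul_inv_cancel_right]
  have f3 : c (0, true) 1 * m1 * (c (0, true) 1)⁻¹ * m1⁻¹ = 1 := by
    have g1 := L.XP (v := v) (z := z) (l := l) (th := th) hx1 (c_mem (0, true) 1)
    have g2 := L.x0_c (1 * ω (ng (1, true))) (0, true) 1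
    have g3 := L.c_v' (0, true) 1 (1, true) (1 ^ 2 * ω (ng (1, true))) (by simp [ng])
    have g4 : c (0, true) 1 * m1 = m1 * c (0, true) 1 := by
      rw [hm1, ← mul_assoc, ← g1, mul_assoc x1, ← mul_assoc (c _ _), ← g2, mul_assoc (x0 _), g3]
      group
    rw [g4]; group
  rw [f2, f3, mul_one] at e2
  refine ⟨_, z_mem (fl (fl i0 1) 0) 1, fun h => ?_, ?_⟩
  · have h3 := L.coQ_V h
    have h4 := CoQ.unique L h3 (L.coQ_single _ _)
    have h5 := congrFun h4 (fl (fl i0 1) 0)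
    rw [Pi.single_eq_same, Pi.zero_apply] at h5
    exact one_ne_zero h5.symm
  · rw [e2, mul_inv_cancel_right]; exact hx2

/-- `Hom_P(V/X, X) = 0`. -/
theorem hV {d : G} (hd1 : ∀ p ∈ Ps x0 v z c l th, d * p * d⁻¹ * p⁻¹ ∈ Qs x0 v z)
    (hd2 : ∀ y ∈ Vs x0 v, d * y * d⁻¹ * y⁻¹ ∈ Xs x0) :
    ∃ y ∈ Vs x0 v, y ∉ Xs x0 ∧ d * y = y * d := by
  have hC := c_mem (x0 := x0) (v := v) (z := z) (c := c) (l := l) (th := th) ((0 : Fin 3), true) 1
  have h1 := L.c_v (0, true) 1 1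
  rw [one_mul, one_pow, one_mul] at h1
  have hw : v (ng (0, true)) 1 ∈ Vs x0 v := v_mem _ _
  have hq1 := hd1 _ hC
  have hx := hd2 _ hw
  set C := c ((0 : Fin 3), true) 1
  set w := v (ng ((0 : Fin 3), true)) 1
  set q1 := d * C * d⁻¹ * C⁻¹ with hq1d
  set x := d * w * d⁻¹ * w⁻¹ with hxd
  have hW : C * w * C⁻¹ ∈ Vs x0 v := L.PV hC hw
  have c1 := L.VQ hW hq1
  have c2 := L.XP hx hC
  have e1 : d * C * d⁻¹ = q1 * C := by rw [hq1d]; group
  have e2 : d * w * d⁻¹ = x * w := by rw [hxd]; group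
  have c3 := L.VQ (mul_mem hW (inv_mem hw)) hq1
  have c4 := L.XP hx (Q_le_P (V_le_Q (mul_mem hW (inv_mem hw))) : _ ∈ Ps x0 v z c l th)
  refine ⟨x0 1 * v (0, true) 1, mul_mem (X_le_V (L.x0_mem _)) (v_mem _ _), fun h => ?_, ?_⟩
  · have h2 := mul_mem (inv_mem (L.x0_mem 1)) h
    rw [inv_mul_cancel_left] at h2
    obtain ⟨a, ha⟩ := L.mem_X.1 h2
    exact one_ne_zero (L.xv _ _ _ ha.symm)
  · have e3 : x0 1 * v (0, true) 1 = C * w * C⁻¹ * w⁻¹ := by rw [h1, mul_inv_cancel_right]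
    rw [e3, ← mul_inv_eq_iff_eq_mul]
    calc d * (C * w * C⁻¹ * w⁻¹) * d⁻¹ = (d * C * d⁻¹) * (d * w * d⁻¹) * (d * C * d⁻¹)⁻¹ * (d * w * d⁻¹)⁻¹ := by
          group
      _ = q1 * (C * x) * w * C⁻¹ * q1⁻¹ * w⁻¹ * x⁻¹ := by rw [e1, e2]; group
      _ = q1 * x * (C * w * C⁻¹) * q1⁻¹ * w⁻¹ * x⁻¹ := by rw [← c2]; group
      _ = x * (q1 * (C * w * C⁻¹)) * q1⁻¹ * w⁻¹ * x⁻¹ := by
        rw [L.XP hx (Q_le_P hq1 : q1 ∈ Ps x0 v z c l th) |>.symm]; group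
      _ = (x * (C * w * C⁻¹ * w⁻¹)) * x⁻¹ := by rw [← c1]; group
      _ = C * w * C⁻¹ * w⁻¹ := by rw [c4, mul_inv_cancel_right]

theorem X_le_comm : Xs x0 ≤ ⁅Qs x0 v z, Qs x0 v z⁆ := by
  intro x hx
  obtain ⟨a, rfl⟩ := L.mem_X.1 hx
  have h1 := commutator_mem_commutator (z_mem (x0 := x0) (v := v) (z := z) (fun _ => true) a)
    (z_mem (x0 := x0) (v := v) (z := z) (op fun _ => true) 1)
  rw [commutatorElement_def, L.z_op, mul_one, mul_inv_cancel_right] at h1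
  exact h1

theorem neQ : ∃ q ∈ Qs x0 v z, q ∉ Vs x0 v := by
  refine ⟨z (fun _ => true) 1, z_mem _ _, fun h => ?_⟩
  have h4 := CoQ.unique L (L.coQ_V h) (L.coQ_single _ _)
  have h5 := congrFun h4 (fun _ => true)
  rw [Pi.single_eq_same, Pi.zero_apply] at h5
  exact one_ne_zero h5.symm

theorem neV : ∃ y ∈ Vs x0 v, y ∉ Xs x0 := by
  refine ⟨v (0, true) 1, v_mem _ _, fun h => ?_⟩
  obtain ⟨a, ha⟩ := L.mem_X.1 h
  exact one_ne_zero (L.xv _ _ _ ha.symm)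

/-- an additive function which is invariant under a scalar `≠ 1` vanishes -/
theorem add_zero_of_inv {g : F → F} (hg : ∀ a b, g (a + b) = g a + g b) {μ : F} (hμ : μ ≠ 1)
    (h : ∀ a, g (μ * a) = g a) (a : F) : g a = 0 := by
  have h0 : μ + 1 ≠ 0 := fun h => hμ (L.add_eq_zero h)
  have h1 : g ((μ + 1) * (a * (μ + 1)⁻¹)) = 0 := by
    rw [add_mul, one_mul, hg, h, L.two]
  rwa [mul_comm, mul_assoc, inv_mul_cancel₀ h0, mul_one] at h1

/-- `H^0(P, Hom(Q/V, X)/Inn Q) = 0`. -/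
theorem E2 (f : G → G) (hf1 : ∀ y ∈ Qs x0 v z, f y ∈ Xs x0)
    (hf2 : ∀ y ∈ Qs x0 v z, ∀ w ∈ Qs x0 v z, f (y * w) = f y * f w) (hf3 : ∀ y ∈ Vs x0 v, f y = 1)
    (hf4 : ∀ p ∈ Ps x0 v z c l th, ∃ q ∈ Qs x0 v z, ∀ y ∈ Qs x0 v z,
      f (p * y * p⁻¹) = f y * (q * y * q⁻¹ * y⁻¹)) :
    ∃ q ∈ Qs x0 v z, ∀ y ∈ Qs x0 v z, f y = q * y * q⁻¹ * y⁻¹ := by
  classical
  choose! g hg using fun (i : Sp) (a : F) => L.mem_X.1 (hf1 _ (z_mem i a))
  have hgadd : ∀ i a b, g i (a + b) = g i a + g i b := by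
    intro i a b
    have h1 := hg i (a + b)
    rw [L.z_add, hf2 _ (z_mem _ _) _ (z_mem _ _), hg, hg, ← L.x0_add] at h1
    have h2 : x0 ((g i a + g i b) + g i (a + b)) = 1 := by
      rw [L.x0_add, h1, self_of_add L.two L.x0_add]
    exact (L.add_eq_zero (L.x0_inj _ h2)).symm
  obtain ⟨μ, hμ⟩ := L.big
  have hμ' : (μ : F) ≠ 1 := fun h => hμ (Units.ext h)
  have hlin : ∀ i, ∃ γ : F, ∀ a, g i a = γ * a := by
    intro i
    obtain ⟨ν, hν⟩ := L.exists_ws i μ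
    obtain ⟨q, hq, hqf⟩ := hf4 _ (th_mem ν)
    obtain ⟨b, hb⟩ := L.coQ_of_mem hq
    have h0 : (μ : F) + 1 ≠ 0 := fun h => hμ' (L.add_eq_zero h)
    have h1 : ∀ a, g i (μ * a) = g i a + b (op i) * a := by
      intro a
      have h2 := hqf _ (z_mem i a)
      rw [L.th_z, hν, hg, hg, hb i a, mul_inv_cancel_right, ← L.x0_add] at h2
      have h3 : x0 (g i (μ * a) + (g i a + b (op i) * a)) = 1 := by
        rw [L.x0_add, h2, self_of_add L.two L.x0_add]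
      exact L.add_eq_zero (L.x0_inj _ h3)
    refine ⟨b (op i) * ((μ : F) + 1)⁻¹, fun a => ?_⟩
    have h2 := L.add_zero_of_inv (g := fun a => g i a + b (op i) * ((μ : F) + 1)⁻¹ * a)
      (fun a a' => by rw [hgadd]; ring) hμ' (fun a => by
        rw [h1]
        have : b (op i) * ((μ : F) + 1)⁻¹ * (μ * a) =
            b (op i) * ((μ : F) + 1)⁻¹ * (((μ : F) + 1) * a) + b (op i) * ((μ : F) + 1)⁻¹ * a := by
          have h5 := L.two (b (op i) * ((μ : F) + 1)⁻¹ * a)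
          calc b (op i) * ((μ : F) + 1)⁻¹ * (μ * a) = b (op i) * ((μ : F) + 1)⁻¹ * (μ * a) +
              (b (op i) * ((μ : F) + 1)⁻¹ * a + b (op i) * ((μ : F) + 1)⁻¹ * a) := by rw [h5, add_zero]
            _ = _ := by ring
        have h6 : b (op i) * ((μ : F) + 1)⁻¹ * (((μ : F) + 1) * a) = b (op i) * a := by
          field_simp
        rw [this, h6]
        have h7 := L.two (b (op i) * a)
        calc g i a + b (op i) * a + (b (op i) * a + b (op i) * ((μ : F) + 1)⁻¹ * a)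
            = g i a + (b (op i) * a + b (op i) * a) + b (op i) * ((μ : F) + 1)⁻¹ * a := by ring
          _ = _ := by rw [h7, add_zero]) a
    exact L.add_eq_zero h2
  choose γ hγ using hlin
  obtain ⟨q0, hq0, hq0γ⟩ := L.exists_coQ (fun i => γ (op i))
  refine ⟨q0, hq0, fun y hy => ?_⟩
  -- both sides are homomorphisms on `Q`
  have hin : ∀ y ∈ Qs x0 v z, ∀ w ∈ Qs x0 v z,
      q0 * (y * w) * q0⁻¹ * (y * w)⁻¹ = (q0 * y * q0⁻¹ * y⁻¹) * (q0 * w * q0⁻¹ * w⁻¹) := by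
    intro y hy w hw
    have h1 := L.XP (c := c) (l := l) (th := th) (L.QQ hq0 hw) (Q_le_P (inv_mem hy))
    calc q0 * (y * w) * q0⁻¹ * (y * w)⁻¹ = q0 * y * q0⁻¹ * ((q0 * w * q0⁻¹ * w⁻¹) * y⁻¹) := by group
      _ = _ := by rw [h1]; group
  induction hy using closure_induction with
  | mem x hx =>
    rcases hx with hx | ⟨i, a, rfl⟩
    · have hx' : x ∈ Vs x0 v := subset_closure hx
      rw [hf3 x hx', ← L.VQ hx' hq0, mul_inv_cancel_right, mul_inv_cancel]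
    · rw [hg, hγ, hq0γ i a]
      beta_reduce
      rw [op_op, mul_inv_cancel_right]
  | one => rw [hf3 1 (one_mem _)]; group
  | mul x w hx hw ih1 ih2 => rw [hf2 _ hx _ hw, ih1, ih2, hin _ hx _ hw]
  | inv x hx ih =>
    have h1 := hf2 _ hx _ (inv_mem hx)
    rw [mul_inv_cancel, hf3 1 (one_mem _), ih] at h1
    have h2 := hin _ hx _ (inv_mem hx)
    have h3 : q0 * (x * x⁻¹) * q0⁻¹ * (x * x⁻¹)⁻¹ = 1 := by group
    rw [h3] at h2
    exact mul_left_cancel (h1.symm.trans h2)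

end

end Cfsg.Agent.OddHalf.D7F4Ex.Loc

end

-- merged: Cfsg.Agent.OddHalf.D7F4Ex.Chain
section

/-!
# Existence of the doubled root groups of `F₄(q)`, `q ≥ 4` (ODD D7, text helper763 #8532 (2)): the chain `X ≤ V ≤ Q ≤ P`

`t` an involution, `X` a root group of `K ≤ C_G(t)`, `P = O^{2'}(C_K(X))`, `Q = O_2(P)`, `V = Z(Q)`, `H` a torus, `A ≤ P` a
subgroup of odd order.  If some `n` normalising `X` and `tX` moves `t`, then for every `x ∈ X` there is `b` with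
`b t b⁻¹ = t x`, centralising `Q` and `A`, and with `[b, P] ≤ V`.
-/

set_option autoImplicit false
set_option linter.style.haveILetI false

namespace Cfsg.Agent.OddHalf.D7F4Ex

open Subgroup
open scoped commutatorElement

variable {G : Type*} [Group G]

/-- A 2-element acting on `A / B` elementary abelian, `A ≠ B`, has a non-trivial fixed point. -/
theorem exists_fixed_two {A B : Subgroup G} (hBA : B ≤ A) (hsq : ∀ a ∈ A, a * a ∈ B)
    (hcm : ∀ a ∈ A, ∀ b ∈ A, a * b * a⁻¹ * b⁻¹ ∈ B) (k : ℕ) :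
    ∀ n : G, n ^ 2 ^ k = 1 → (∀ a ∈ A, n * a * n⁻¹ ∈ A) → (∀ b ∈ B, n * b * n⁻¹ ∈ B) → ∀ a ∈ A, a ∉ B →
      ∃ c ∈ A, c ∉ B ∧ n * c * n⁻¹ * c⁻¹ ∈ B := by
  induction k with
  | zero =>
    intro n hn _ _ a ha hab
    rw [pow_zero, pow_one] at hn
    exact ⟨a, ha, hab, by rw [hn, one_mul, inv_one, mul_one, mul_inv_cancel]; exact one_mem _⟩
  | succ k ih =>
    intro n hn hA hB a ha hab
    have h1 : (n * n) ^ 2 ^ k = 1 := by
      rw [← pow_two, ← pow_mul, ← pow_succ']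
      exact hn
    obtain ⟨c, hc, hcb, h2⟩ := ih (n * n) h1
      (fun x hx => by
        have := hA _ (hA x hx)
        have e : n * n * x * (n * n)⁻¹ = n * (n * x * n⁻¹) * n⁻¹ := by group
        rwa [e])
      (fun x hx => by
        have := hB _ (hB x hx)
        have e : n * n * x * (n * n)⁻¹ = n * (n * x * n⁻¹) * n⁻¹ := by group
        rwa [e]) a ha hab
    by_cases h3 : n * c * n⁻¹ * c⁻¹ ∈ B
    · exact ⟨c, hc, hcb, h3⟩
    · refine ⟨n * c * n⁻¹ * c⁻¹, mul_mem (hA c hc) (inv_mem hc), h3, ?_⟩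
      have hBn : ∀ b ∈ B, ∀ x ∈ A, x * b * x⁻¹ ∈ B := by
        intro b hb x hx
        have := mul_mem (hcm x hx b (hBA hb)) hb
        have e : x * b * x⁻¹ * b⁻¹ * b = x * b * x⁻¹ := by group
        rwa [e] at this
      -- `u = n c n⁻¹`, `w = n u n⁻¹`
      set u := n * c * n⁻¹ with hu
      have huA : u ∈ A := hA c hc
      have hwA : n * u * n⁻¹ ∈ A := hA u huA
      set w := n * u * n⁻¹ with hw
      have h4 : w * c⁻¹ ∈ B := by
        have e : n * n * c * (n * n)⁻¹ * c⁻¹ = w * c⁻¹ := by rw [hw, hu]; group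
        rwa [e] at h2
      -- the element is `w u⁻¹ c u⁻¹`
      have e : n * (u * c⁻¹) * n⁻¹ * (u * c⁻¹)⁻¹ = w * u⁻¹ * c * u⁻¹ := by
        rw [hw]
        have : n * (u * c⁻¹) * n⁻¹ = n * u * n⁻¹ * (n * c * n⁻¹)⁻¹ := by group
        rw [this, ← hu]; group
      rw [e]
      -- `w u⁻¹ c u⁻¹ = (w c⁻¹) (c u⁻¹ c u⁻¹)`
      have h5 : (c * u⁻¹) * (c * u⁻¹) ∈ B := hsq _ (mul_mem hc (inv_mem huA))
      have h6 := mul_mem h4 h5
      have e2 : w * c⁻¹ * (c * u⁻¹ * (c * u⁻¹)) = w * u⁻¹ * c * u⁻¹ := by group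
      rwa [e2] at h6

/-- The local hypotheses. -/
structure Chain (t : G) (X V Q P H : Subgroup G) : Prop where
  tt : t * t = 1
  tX : t ∉ X
  X2 : ∀ x ∈ X, x * x = 1
  XV : X ≤ V
  VQ : V ≤ Q
  QP : Q ≤ P
  V2 : ∀ v ∈ V, v * v = 1
  Q2 : ∀ q ∈ Q, q * q ∈ V
  tP : ∀ p ∈ P, t * p = p * t
  XP : ∀ x ∈ X, ∀ p ∈ P, x * p = p * x
  VQc : ∀ v ∈ V, ∀ q ∈ Q, v * q = q * v
  PQ : ∀ p ∈ P, ∀ q ∈ Q, p * q * p⁻¹ ∈ Q
  PV : ∀ p ∈ P, ∀ v ∈ V, p * v * p⁻¹ ∈ V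
  tH : ∀ h ∈ H, t * h = h * t
  HX : ∀ h ∈ H, ∀ x ∈ X, h * x * h⁻¹ ∈ X
  /-- an element normalising `X` and `t X` normalises `P`, `Q`, `V` -/
  nP : ∀ n : G, (∀ x ∈ X, n * x * n⁻¹ ∈ X) → t * (n * t * n⁻¹) ∈ X →
    (∀ p ∈ P, n * p * n⁻¹ ∈ P) ∧ (∀ q ∈ Q, n * q * n⁻¹ ∈ Q) ∧ (∀ v ∈ V, n * v * n⁻¹ ∈ V)
  XQQ : X ≤ ⁅Q, Q⁆
  QQ : ∀ v ∈ Q, ∀ w ∈ Q, v * w * v⁻¹ * w⁻¹ ∈ X
  ZQ : ∀ q ∈ Q, (∀ v ∈ Q, q * v = v * q) → q ∈ V
  /-- `P` is irreducible on `Q / V` and on `V / X` -/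
  irrQ : ∀ R : Subgroup G, V ≤ R → R ≤ Q → (∀ p ∈ P, ∀ r ∈ R, p * r * p⁻¹ ∈ R) → R = V ∨ R = Q
  irrV : ∀ R : Subgroup G, X ≤ R → R ≤ V → (∀ p ∈ P, ∀ r ∈ R, p * r * p⁻¹ ∈ R) → R = X ∨ R = V
  neQ : ∃ q ∈ Q, q ∉ V
  neV : ∃ v ∈ V, v ∉ X
  /-- `Hom_P(Q/V, V/X) = 0` (for actions of elements of `G`) -/
  hQ : ∀ d : G, (∀ p ∈ P, d * p * d⁻¹ * p⁻¹ ∈ Q) → (∀ q ∈ Q, d * q * d⁻¹ * q⁻¹ ∈ V) →
    (∀ v ∈ V, d * v * d⁻¹ * v⁻¹ ∈ X) → ∃ q ∈ Q, q ∉ V ∧ d * q * d⁻¹ * q⁻¹ ∈ X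
  /-- `Hom_P(V/X, X) = 0` -/
  hV : ∀ d : G, (∀ p ∈ P, d * p * d⁻¹ * p⁻¹ ∈ Q) → (∀ v ∈ V, d * v * d⁻¹ * v⁻¹ ∈ X) →
    (∀ x ∈ X, d * x = x * d) → ∃ v ∈ V, v ∉ X ∧ d * v = v * d
  /-- `H^0(P, Hom(Q/V, X) / Inn Q) = 0` -/
  E2 : ∀ f : G → G, (∀ v ∈ Q, f v ∈ X) → (∀ v ∈ Q, ∀ w ∈ Q, f (v * w) = f v * f w) → (∀ x ∈ V, f x = 1) →
    (∀ p ∈ P, ∃ q ∈ Q, ∀ v ∈ Q, f (p * v * p⁻¹) = f v * (q * v * q⁻¹ * v⁻¹)) →
    ∃ q ∈ Q, ∀ v ∈ Q, f v = q * v * q⁻¹ * v⁻¹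

namespace Chain

variable {t : G} {X V Q P H : Subgroup G}

theorem t_inv (S : Chain t X V Q P H) : t⁻¹ = t := inv_eq_of_mul_eq_one_left S.tt

theorem XQ (S : Chain t X V Q P H) : X ≤ Q := S.XV.trans S.VQ

theorem tx (S : Chain t X V Q P H) {x : G} (hx : x ∈ X) : t * x = x * t := S.tP x (S.QP (S.XQ hx))

theorem inv_X (S : Chain t X V Q P H) {x : G} (hx : x ∈ X) : x⁻¹ = x := inv_eq_of_mul_eq_one_left (S.X2 x hx)

/-- The normaliser of `X` and of `t X`. -/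
def N (S : Chain t X V Q P H) : Subgroup G where
  carrier := {n | (∀ x ∈ X, n * x * n⁻¹ ∈ X) ∧ (∀ x ∈ X, n⁻¹ * x * n ∈ X) ∧ t * (n * t * n⁻¹) ∈ X}
  one_mem' := ⟨fun x hx => by simpa using hx, fun x hx => by simpa using hx, by
    rw [one_mul, inv_one, mul_one, S.tt]; exact one_mem _⟩
  mul_mem' := by
    rintro a b ⟨ha1, ha2, ha3⟩ ⟨hb1, hb2, hb3⟩
    refine ⟨fun x hx => ?_, fun x hx => ?_, ?_⟩
    · have := ha1 _ (hb1 x hx)
      have e : a * b * x * (a * b)⁻¹ = a * (b * x * b⁻¹) * a⁻¹ := by group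
      rwa [e]
    · have := hb2 _ (ha2 x hx)
      have e : (a * b)⁻¹ * x * (a * b) = b⁻¹ * (a⁻¹ * x * a) * b := by group
      rwa [e]
    · have h1 := mul_mem ha3 (ha1 _ hb3)
      have e : t * (a * b * t * (a * b)⁻¹) = t * (a * t * a⁻¹) * (a * (t * (b * t * b⁻¹)) * a⁻¹) := by
        calc t * (a * b * t * (a * b)⁻¹) = t * a * 1 * b * t * b⁻¹ * a⁻¹ := by group
          _ = t * a * (t * t) * b * t * b⁻¹ * a⁻¹ := by rw [S.tt]
          _ = _ := by group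
      rwa [e]
  inv_mem' := by
    rintro a ⟨ha1, ha2, ha3⟩
    refine ⟨fun x hx => by simpa using ha2 x hx, fun x hx => by simpa using ha1 x hx, ?_⟩
    have h1 := inv_mem (ha2 _ ha3)
    have e : t * (a⁻¹ * t * a⁻¹⁻¹) = (a⁻¹ * (t * (a * t * a⁻¹)) * a)⁻¹ := by
      calc t * (a⁻¹ * t * a⁻¹⁻¹) = t⁻¹ * (a⁻¹ * t⁻¹ * a) := by rw [S.t_inv, inv_inv]
        _ = _ := by group
    rwa [e]

theorem mem_N (S : Chain t X V Q P H) {n : G} :
    n ∈ S.N ↔ (∀ x ∈ X, n * x * n⁻¹ ∈ X) ∧ (∀ x ∈ X, n⁻¹ * x * n ∈ X) ∧ t * (n * t * n⁻¹) ∈ X := Iff.rfl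

theorem N_P (S : Chain t X V Q P H) {n : G} (hn : n ∈ S.N) {p : G} (hp : p ∈ P) : n * p * n⁻¹ ∈ P :=
  (S.nP n hn.1 hn.2.2).1 p hp

theorem N_Q (S : Chain t X V Q P H) {n : G} (hn : n ∈ S.N) {q : G} (hq : q ∈ Q) : n * q * n⁻¹ ∈ Q :=
  (S.nP n hn.1 hn.2.2).2.1 q hq

theorem N_V (S : Chain t X V Q P H) {n : G} (hn : n ∈ S.N) {q : G} (hq : q ∈ V) : n * q * n⁻¹ ∈ V :=
  (S.nP n hn.1 hn.2.2).2.2 q hq

/-- The elements of `N` trivial on `P/Q`. -/
def C4 (S : Chain t X V Q P H) : Subgroup G where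
  carrier := {n | n ∈ S.N ∧ ∀ p ∈ P, n * p * n⁻¹ * p⁻¹ ∈ Q}
  one_mem' := ⟨one_mem _, fun p _ => by
    rw [one_mul, inv_one, mul_one, mul_inv_cancel]; exact one_mem _⟩
  mul_mem' := by
    rintro a b ⟨ha, ha2⟩ ⟨hb, hb2⟩
    refine ⟨mul_mem ha hb, fun p hp => ?_⟩
    have h1 := mul_mem (S.N_Q ha (hb2 p hp)) (ha2 p hp)
    have e : a * b * p * (a * b)⁻¹ * p⁻¹ = a * (b * p * b⁻¹ * p⁻¹) * a⁻¹ * (a * p * a⁻¹ * p⁻¹) := by group
    rwa [e]
  inv_mem' := by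
    rintro a ⟨ha, ha2⟩
    refine ⟨inv_mem ha, fun p hp => ?_⟩
    have h1 := inv_mem (S.N_Q (inv_mem ha) (ha2 p hp))
    have e : a⁻¹ * p * a⁻¹⁻¹ * p⁻¹ = (a⁻¹ * (a * p * a⁻¹ * p⁻¹) * a⁻¹⁻¹)⁻¹ := by group
    rwa [e]

theorem C4_le (S : Chain t X V Q P H) : S.C4 ≤ S.N := fun _ h => h.1

/-- `C4` is normal in `N`. -/
theorem conj_C4 (S : Chain t X V Q P H) {n c : G} (hn : n ∈ S.N) (hc : c ∈ S.C4) : n * c * n⁻¹ ∈ S.C4 := by
  refine ⟨mul_mem (mul_mem hn hc.1) (inv_mem hn), fun p hp => ?_⟩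
  have h1 := S.N_Q hn (hc.2 _ (S.N_P (inv_mem hn) hp))
  have e : n * c * n⁻¹ * p * (n * c * n⁻¹)⁻¹ * p⁻¹ =
    n * (c * (n⁻¹ * p * n⁻¹⁻¹) * c⁻¹ * (n⁻¹ * p * n⁻¹⁻¹)⁻¹) * n⁻¹ := by group
  rwa [e]

/-- The elements of `N` trivial on `P/Q`, `Q/V` and on `V/X`. -/
def D (S : Chain t X V Q P H) : Subgroup G where
  carrier := {n | n ∈ S.C4 ∧ (∀ q ∈ Q, n * q * n⁻¹ * q⁻¹ ∈ V) ∧ ∀ v ∈ V, n * v * n⁻¹ * v⁻¹ ∈ X}
  one_mem' := ⟨one_mem _, fun p _ => by
    rw [one_mul, inv_one, mul_one, mul_inv_cancel]; exact one_mem _, fun p _ => by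
    rw [one_mul, inv_one, mul_one, mul_inv_cancel]; exact one_mem _⟩
  mul_mem' := by
    rintro a b ⟨ha, ha2, ha3⟩ ⟨hb, hb2, hb3⟩
    refine ⟨mul_mem ha hb, fun p hp => ?_, fun p hp => ?_⟩
    · have h1 := mul_mem (S.N_V ha.1 (hb2 p hp)) (ha2 p hp)
      have e : a * b * p * (a * b)⁻¹ * p⁻¹ = a * (b * p * b⁻¹ * p⁻¹) * a⁻¹ * (a * p * a⁻¹ * p⁻¹) := by group
      rwa [e]
    · have h1 := mul_mem (ha.1.1 _ (hb3 p hp)) (ha3 p hp)
      have e : a * b * p * (a * b)⁻¹ * p⁻¹ = a * (b * p * b⁻¹ * p⁻¹) * a⁻¹ * (a * p * a⁻¹ * p⁻¹) := by group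
      rwa [e]
  inv_mem' := by
    rintro a ⟨ha, ha2, ha3⟩
    refine ⟨inv_mem ha, fun p hp => ?_, fun p hp => ?_⟩
    · have h1 := inv_mem (S.N_V (inv_mem ha.1) (ha2 p hp))
      have e : a⁻¹ * p * a⁻¹⁻¹ * p⁻¹ = (a⁻¹ * (a * p * a⁻¹ * p⁻¹) * a⁻¹⁻¹)⁻¹ := by group
      rwa [e]
    · have h1 := inv_mem (ha.1.2.1 _ (ha3 p hp))
      have e : a⁻¹ * p * a⁻¹⁻¹ * p⁻¹ = (a⁻¹ * (a * p * a⁻¹ * p⁻¹) * a)⁻¹ := by group
      rwa [e]

theorem D_le (S : Chain t X V Q P H) : S.D ≤ S.C4 := fun _ h => h.1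

theorem conj_D (S : Chain t X V Q P H) {n c : G} (hn : n ∈ S.N) (hc : c ∈ S.D) : n * c * n⁻¹ ∈ S.D := by
  refine ⟨S.conj_C4 hn hc.1, fun q hq => ?_, fun q hq => ?_⟩
  · have h1 := S.N_V hn (hc.2.1 _ (S.N_Q (inv_mem hn) hq))
    have e : n * c * n⁻¹ * q * (n * c * n⁻¹)⁻¹ * q⁻¹ =
      n * (c * (n⁻¹ * q * n⁻¹⁻¹) * c⁻¹ * (n⁻¹ * q * n⁻¹⁻¹)⁻¹) * n⁻¹ := by group
    rwa [e]
  · have h1 := hn.1 _ (hc.2.2 _ (S.N_V (inv_mem hn) hq))
    have e : n * c * n⁻¹ * q * (n * c * n⁻¹)⁻¹ * q⁻¹ =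
      n * (c * (n⁻¹ * q * n⁻¹⁻¹) * c⁻¹ * (n⁻¹ * q * n⁻¹⁻¹)⁻¹) * n⁻¹ := by group
    rwa [e]

theorem QV (S : Chain t X V Q P H) {a b : G} (ha : a ∈ Q) (hb : b ∈ Q) : a * b * a⁻¹ * b⁻¹ ∈ V :=
  S.XV (S.QQ a ha b hb)

/-- The conjugate of a commutator by an element which is trivial on `P/Q`. -/
theorem comm_conj {d p q q1 r : G} (h1 : d * p * d⁻¹ * p⁻¹ = q1) (h2 : d * q * d⁻¹ * q⁻¹ = r) :
    d * (p * q * p⁻¹) * d⁻¹ * (p * q * p⁻¹)⁻¹ =
      q1 * (p * r * p⁻¹) * q1⁻¹ * (q1 * (p * q * p⁻¹) * q1⁻¹ * (p * q * p⁻¹)⁻¹) := by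
  have e1 : d * p = q1 * p * d := by rw [← h1]; group
  have e2 : d * q = r * q * d := by rw [← h2]; group
  calc d * (p * q * p⁻¹) * d⁻¹ * (p * q * p⁻¹)⁻¹ = (d * p) * q * (d * p)⁻¹ * (p * q * p⁻¹)⁻¹ := by group
    _ = q1 * p * (d * q) * d⁻¹ * p⁻¹ * q1⁻¹ * (p * q * p⁻¹)⁻¹ := by rw [e1]; group
    _ = _ := by rw [e2]; group

/-- A 2-element of `C4` lies in `D`. -/
theorem mem_D_of_two (S : Chain t X V Q P H) {n : G} (hn : n ∈ S.C4) {k : ℕ} (h2 : n ^ 2 ^ k = 1) : n ∈ S.D := by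
  have hnN := hn.1
  refine ⟨hn, ?_, ?_⟩
  · -- the fixed points on `Q / V`
    let R : Subgroup G :=
      { carrier := {q | q ∈ Q ∧ n * q * n⁻¹ * q⁻¹ ∈ V}
        one_mem' := ⟨one_mem _, by rw [mul_one, mul_inv_cancel, inv_one, mul_one]; exact one_mem _⟩
        mul_mem' := by
          rintro a b ⟨ha, ha2⟩ ⟨hb, hb2⟩
          refine ⟨mul_mem ha hb, ?_⟩
          have h3 := S.VQc _ hb2 a⁻¹ (inv_mem ha)
          have e : n * (a * b) * n⁻¹ * (a * b)⁻¹ = (n * a * n⁻¹) * ((n * b * n⁻¹ * b⁻¹) * a⁻¹) := by group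
          rw [e, h3]
          have h4 := mul_mem ha2 hb2
          have e2 : n * a * n⁻¹ * (a⁻¹ * (n * b * n⁻¹ * b⁻¹)) = n * a * n⁻¹ * a⁻¹ * (n * b * n⁻¹ * b⁻¹) := by group
          rwa [e2]
        inv_mem' := by
          rintro a ⟨ha, ha2⟩
          refine ⟨inv_mem ha, ?_⟩
          have h3 := inv_mem ha2
          have h4 := S.VQc _ h3 a ha
          have e : n * a⁻¹ * n⁻¹ * a⁻¹⁻¹ = a⁻¹ * ((n * a * n⁻¹ * a⁻¹)⁻¹ * a) := by group
          rw [e, h4]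
          have e2 : a⁻¹ * (a * (n * a * n⁻¹ * a⁻¹)⁻¹) = (n * a * n⁻¹ * a⁻¹)⁻¹ := by group
          rwa [e2] }
    have hR : R = V ∨ R = Q := by
      refine S.irrQ R (fun v hv => ⟨S.VQ hv, mul_mem (S.N_V hnN hv) (inv_mem hv)⟩) (fun _ h => h.1) ?_
      rintro p hp q ⟨hq, hq2⟩
      refine ⟨S.PQ p hp q hq, ?_⟩
      rw [comm_conj rfl rfl]
      refine mul_mem ?_ (S.QV (hn.2 p hp) (S.PQ p hp q hq))
      have h3 := S.PV p hp _ hq2
      rw [← S.VQc _ h3 _ (hn.2 p hp), mul_inv_cancel_right]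
      exact h3
    obtain ⟨q0, hq0, hq0V⟩ := S.neQ
    obtain ⟨c, hc, hcV, hcn⟩ := exists_fixed_two S.VQ S.Q2 (fun a ha b hb => S.QV ha hb) k n h2
      (fun a ha => S.N_Q hnN ha) (fun a ha => S.N_V hnN ha) q0 hq0 hq0V
    rcases hR with h | h
    · exfalso; apply hcV
      rw [← h]; exact ⟨hc, hcn⟩
    · intro q hq
      rw [← h] at hq
      exact hq.2
  · let R : Subgroup G :=
      { carrier := {q | q ∈ V ∧ n * q * n⁻¹ * q⁻¹ ∈ X}
        one_mem' := ⟨one_mem _, by rw [mul_one, mul_inv_cancel, inv_one, mul_one]; exact one_mem _⟩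
        mul_mem' := by
          rintro a b ⟨ha, ha2⟩ ⟨hb, hb2⟩
          refine ⟨mul_mem ha hb, ?_⟩
          have h3 := S.XP _ hb2 a⁻¹ (S.QP (S.VQ (inv_mem ha)))
          have e : n * (a * b) * n⁻¹ * (a * b)⁻¹ = (n * a * n⁻¹) * ((n * b * n⁻¹ * b⁻¹) * a⁻¹) := by group
          rw [e, h3]
          have h4 := mul_mem ha2 hb2
          have e2 : n * a * n⁻¹ * (a⁻¹ * (n * b * n⁻¹ * b⁻¹)) = n * a * n⁻¹ * a⁻¹ * (n * b * n⁻¹ * b⁻¹) := by group
          rwa [e2]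
        inv_mem' := by
          rintro a ⟨ha, ha2⟩
          refine ⟨inv_mem ha, ?_⟩
          have h3 := inv_mem ha2
          have h4 := S.XP _ h3 a (S.QP (S.VQ ha))
          have e : n * a⁻¹ * n⁻¹ * a⁻¹⁻¹ = a⁻¹ * ((n * a * n⁻¹ * a⁻¹)⁻¹ * a) := by group
          rw [e, h4]
          have e2 : a⁻¹ * (a * (n * a * n⁻¹ * a⁻¹)⁻¹) = (n * a * n⁻¹ * a⁻¹)⁻¹ := by group
          rwa [e2] }
    have hR : R = X ∨ R = V := by
      refine S.irrV R (fun v hv => ⟨S.XV hv, mul_mem (hnN.1 v hv) (inv_mem hv)⟩) (fun _ h => h.1) ?_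
      rintro p hp q ⟨hq, hq2⟩
      refine ⟨S.PV p hp q hq, ?_⟩
      rw [comm_conj rfl rfl]
      refine mul_mem ?_ ?_
      · have h3 : p * (n * q * n⁻¹ * q⁻¹) * p⁻¹ = n * q * n⁻¹ * q⁻¹ := by
          rw [← S.XP _ hq2 p hp, mul_inv_cancel_right]
        rw [h3, ← S.XP _ hq2 _ (S.QP (hn.2 p hp)), mul_inv_cancel_right]
        exact hq2
      · rw [← S.VQc _ (S.PV p hp q hq) _ (hn.2 p hp)]
        have : p * q * p⁻¹ * (n * p * n⁻¹ * p⁻¹) * (n * p * n⁻¹ * p⁻¹)⁻¹ * (p * q * p⁻¹)⁻¹ = 1 := by group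
        rw [this]; exact one_mem _
    obtain ⟨q0, hq0, hq0V⟩ := S.neV
    obtain ⟨c, hc, hcV, hcn⟩ := exists_fixed_two S.XV (fun v hv => by rw [S.V2 v hv]; exact one_mem _)
      (fun a ha b hb => by
        rw [S.VQc a ha b (S.VQ hb)]
        have : b * a * a⁻¹ * b⁻¹ = 1 := by group
        rw [this]; exact one_mem _) k n h2
      (fun a ha => S.N_V hnN ha) (fun a ha => hnN.1 a ha) q0 hq0 hq0V
    rcases hR with h | h
    · exfalso; apply hcV
      rw [← h]; exact ⟨hc, hcn⟩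
    · intro q hq
      rw [← h] at hq
      exact hq.2

/-- `D` centralises `X`. -/
theorem D_X (S : Chain t X V Q P H) {n : G} (hn : n ∈ S.D) {x : G} (hx : x ∈ X) : n * x = x * n := by
  have hle : ⁅Q, Q⁆ ≤ centralizer ({n} : Set G) := by
    rw [commutator_le]
    intro a ha b hb
    rw [mem_centralizer_singleton_iff]
    have ha' := hn.2.1 a ha
    have hb' := hn.2.1 b hb
    set x := n * a * n⁻¹ * a⁻¹ with hx
    set y := n * b * n⁻¹ * b⁻¹ with hy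
    have ea : n * a * n⁻¹ = x * a := by rw [hx]; group
    have eb : n * b * n⁻¹ = y * b := by rw [hy]; group
    have c1 : ∀ q ∈ Q, x * q = q * x := fun q hq => S.VQc x ha' q hq
    have c2 : ∀ q ∈ Q, y * q = q * y := fun q hq => S.VQc y hb' q hq
    have e : n * ⁅a, b⁆ * n⁻¹ = ⁅a, b⁆ := by
      have e1 : n * ⁅a, b⁆ * n⁻¹ = (n * a * n⁻¹) * (n * b * n⁻¹) * (n * a * n⁻¹)⁻¹ * (n * b * n⁻¹)⁻¹ := by
        rw [commutatorElement_def]; group
      rw [e1, ea, eb, commutatorElement_def]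
      calc x * a * (y * b) * (x * a)⁻¹ * (y * b)⁻¹
          = x * (a * (y * b)) * (a⁻¹ * x⁻¹) * (b⁻¹ * y⁻¹) := by group
        _ = x * (a * (y * b) * a⁻¹) * x⁻¹ * (b⁻¹ * y⁻¹) := by group
        _ = (a * (y * b) * a⁻¹) * x * x⁻¹ * (b⁻¹ * y⁻¹) := by
          rw [c1 (a * (y * b) * a⁻¹) (mul_mem (mul_mem ha (mul_mem (S.VQ hb') hb)) (inv_mem ha))]
        _ = a * y * (b * a⁻¹ * b⁻¹) * y⁻¹ := by group
        _ = y * (a * (b * a⁻¹ * b⁻¹)) * y⁻¹ := by rw [← c2 a ha]; group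
        _ = a * (b * a⁻¹ * b⁻¹) := by
          rw [c2 _ (mul_mem ha (mul_mem (mul_mem hb (inv_mem ha)) (inv_mem hb)))]; group
        _ = a * b * a⁻¹ * b⁻¹ := by group
    calc ⁅a, b⁆ * n = n * ⁅a, b⁆ * n⁻¹ * n := by rw [e]
      _ = n * ⁅a, b⁆ := by group
  exact (mem_centralizer_singleton_iff.1 (hle (S.XQQ hx))).symm

/-- `D` acts trivially on `Q / X`. -/
theorem D_Q (S : Chain t X V Q P H) {n : G} (hn : n ∈ S.D) {q : G} (hq : q ∈ Q) : n * q * n⁻¹ * q⁻¹ ∈ X := by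
  let R : Subgroup G :=
    { carrier := {q | q ∈ Q ∧ n * q * n⁻¹ * q⁻¹ ∈ X}
      one_mem' := ⟨one_mem _, by rw [mul_one, mul_inv_cancel, inv_one, mul_one]; exact one_mem _⟩
      mul_mem' := by
        rintro a b ⟨ha, ha2⟩ ⟨hb, hb2⟩
        refine ⟨mul_mem ha hb, ?_⟩
        have h3 := S.XP _ hb2 a⁻¹ (S.QP (inv_mem ha))
        have e : n * (a * b) * n⁻¹ * (a * b)⁻¹ = (n * a * n⁻¹) * ((n * b * n⁻¹ * b⁻¹) * a⁻¹) := by group
        rw [e, h3]
        have h4 := mul_mem ha2 hb2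
        have e2 : n * a * n⁻¹ * (a⁻¹ * (n * b * n⁻¹ * b⁻¹)) = n * a * n⁻¹ * a⁻¹ * (n * b * n⁻¹ * b⁻¹) := by group
        rwa [e2]
      inv_mem' := by
        rintro a ⟨ha, ha2⟩
        refine ⟨inv_mem ha, ?_⟩
        have h3 := inv_mem ha2
        have h4 := S.XP _ h3 a (S.QP ha)
        have e : n * a⁻¹ * n⁻¹ * a⁻¹⁻¹ = a⁻¹ * ((n * a * n⁻¹ * a⁻¹)⁻¹ * a) := by group
        rw [e, h4]
        have e2 : a⁻¹ * (a * (n * a * n⁻¹ * a⁻¹)⁻¹) = (n * a * n⁻¹ * a⁻¹)⁻¹ := by group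
        rwa [e2] }
  have hR : R = V ∨ R = Q := by
    refine S.irrQ R (fun v hv => ⟨S.VQ hv, hn.2.2 v hv⟩) (fun _ h => h.1) ?_
    rintro p hp q ⟨hq, hq2⟩
    refine ⟨S.PQ p hp q hq, ?_⟩
    have hq1 := hn.1.2 p hp
    rw [comm_conj rfl rfl]
    refine mul_mem ?_ (S.QQ _ hq1 _ (S.PQ p hp q hq))
    have h3 : p * (n * q * n⁻¹ * q⁻¹) * p⁻¹ = n * q * n⁻¹ * q⁻¹ := by
      rw [← S.XP _ hq2 p hp, mul_inv_cancel_right]
    rw [h3, ← S.XP _ hq2 _ (S.QP hq1), mul_inv_cancel_right]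
    exact hq2
  rcases hR with h | h
  · exfalso
    obtain ⟨c, hc, hcV, hcX⟩ := S.hQ n hn.1.2 hn.2.1 hn.2.2
    apply hcV
    rw [← h]; exact ⟨hc, hcX⟩
  · rw [← h] at hq
    exact hq.2

/-- `D` centralises `V`. -/
theorem D_V (S : Chain t X V Q P H) {n : G} (hn : n ∈ S.D) {v : G} (hv : v ∈ V) : n * v = v * n := by
  let R : Subgroup G :=
    { carrier := {q | q ∈ V ∧ n * q = q * n}
      one_mem' := ⟨one_mem _, by rw [mul_one, one_mul]⟩
      mul_mem' := by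
        rintro a b ⟨ha, ha2⟩ ⟨hb, hb2⟩
        exact ⟨mul_mem ha hb, by rw [← mul_assoc, ha2, mul_assoc, hb2, mul_assoc]⟩
      inv_mem' := by
        rintro a ⟨ha, ha2⟩
        refine ⟨inv_mem ha, ?_⟩
        rw [mul_inv_eq_iff_eq_mul, mul_assoc, ha2, inv_mul_cancel_left] }
  have hR : R = X ∨ R = V := by
    refine S.irrV R (fun v hv => ⟨S.XV hv, S.D_X hn hv⟩) (fun _ h => h.1) ?_
    rintro p hp q ⟨hq, hq2⟩
    refine ⟨S.PV p hp q hq, ?_⟩
    have hq1 := hn.1.2 p hp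
    set q1 := n * p * n⁻¹ * p⁻¹ with hq1d
    have e1 : n * p = q1 * p * n := by rw [hq1d]; group
    have h3 := S.VQc _ (S.PV p hp q hq) q1 hq1
    calc n * (p * q * p⁻¹) = (n * p) * q * (n * p)⁻¹ * n := by group
      _ = q1 * p * (n * q) * n⁻¹ * p⁻¹ * q1⁻¹ * n := by rw [e1]; group
      _ = q1 * (p * q * p⁻¹) * q1⁻¹ * n := by rw [hq2]; group
      _ = p * q * p⁻¹ * n := by rw [← h3, mul_inv_cancel_right]
  rcases hR with h | h
  · exfalso
    obtain ⟨c, hc, hcV, hcX⟩ := S.hV n hn.1.2 hn.2.2 (fun x hx => S.D_X hn hx)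
    apply hcV
    rw [← h]; exact ⟨hc, hcX⟩
  · rw [← h] at hv
    exact hv.2

/-- **Lemma B**: an element of `D` agrees on `t` with an element centralising `Q` and `P/V`. -/
theorem exists_cent (S : Chain t X V Q P H) {n : G} (hn : n ∈ S.D) :
    ∃ b : G, (∀ q ∈ Q, b * q = q * b) ∧ (∀ p ∈ P, b * p * b⁻¹ * p⁻¹ ∈ V) ∧ b * t * b⁻¹ = n * t * n⁻¹ := by
  obtain ⟨q, hq, hf⟩ := S.E2 (fun v => n * v * n⁻¹ * v⁻¹) (fun v hv => S.D_Q hn hv)
    (by
      intro v hv w hw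
      have hx := S.D_Q hn hw
      calc n * (v * w) * n⁻¹ * (v * w)⁻¹ = (n * v * n⁻¹) * ((n * w * n⁻¹ * w⁻¹) * v⁻¹) := by group
        _ = (n * v * n⁻¹) * (v⁻¹ * (n * w * n⁻¹ * w⁻¹)) := by
          rw [S.XP _ hx v⁻¹ (S.QP (inv_mem hv))]
        _ = n * v * n⁻¹ * v⁻¹ * (n * w * n⁻¹ * w⁻¹) := by group)
    (by
      intro x hx
      show n * x * n⁻¹ * x⁻¹ = 1
      rw [S.D_V hn hx]; group)
    (by
      intro p hp
      have hq1 := hn.1.2 p hp
      set q1 := n * p * n⁻¹ * p⁻¹ with hq1d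
      have hpq : p⁻¹ * q1 * p ∈ Q := by simpa using S.PQ p⁻¹ (inv_mem hp) q1 hq1
      refine ⟨p⁻¹ * q1 * p, hpq, fun v hv => ?_⟩
      have hxv := S.D_Q hn hv
      set x := n * v * n⁻¹ * v⁻¹ with hxd
      have e1 : n * p = q1 * p * n := by rw [hq1d]; group
      have e2 : n * v = x * v * n := by rw [hxd]; group
      have c1 : ∀ p ∈ P, x * p = p * x := fun p hp => S.XP x hxv p hp
      have hq1P := S.QP hq1
      calc n * (p * v * p⁻¹) * n⁻¹ * (p * v * p⁻¹)⁻¹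
          = (n * p) * v * (n * p)⁻¹ * (p * v * p⁻¹)⁻¹ := by group
        _ = q1 * p * (n * v) * n⁻¹ * p⁻¹ * q1⁻¹ * (p * v * p⁻¹)⁻¹ := by rw [e1]; group
        _ = (q1 * p) * x * v * p⁻¹ * q1⁻¹ * (p * v * p⁻¹)⁻¹ := by rw [e2]; group
        _ = x * (q1 * p) * v * p⁻¹ * q1⁻¹ * (p * v * p⁻¹)⁻¹ := by rw [c1 _ (mul_mem hq1P hp)]
        _ = x * p * ((p⁻¹ * q1 * p) * v * (p⁻¹ * q1 * p)⁻¹ * v⁻¹) * p⁻¹ := by group
        _ = x * (p * ((p⁻¹ * q1 * p) * v * (p⁻¹ * q1 * p)⁻¹ * v⁻¹) * p⁻¹) := by group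
        _ = x * ((p⁻¹ * q1 * p) * v * (p⁻¹ * q1 * p)⁻¹ * v⁻¹) := by
          congr 1
          have h3 : (p⁻¹ * q1 * p) * v * (p⁻¹ * q1 * p)⁻¹ * v⁻¹ ∈ X := S.QQ _ hpq v hv
          rw [← S.XP _ h3 p hp]; group)
  have hqP := S.QP hq
  -- `b = q⁻¹ n` centralises `Q`
  have hbQ : ∀ v ∈ Q, (q⁻¹ * n) * v * (q⁻¹ * n)⁻¹ = v := by
    intro v hv
    have h1 : n * v * n⁻¹ = q * v * q⁻¹ := mul_right_cancel (hf v hv)
    calc (q⁻¹ * n) * v * (q⁻¹ * n)⁻¹ = q⁻¹ * (n * v * n⁻¹) * q := by group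
      _ = v := by rw [h1]; group
  refine ⟨q⁻¹ * n, fun v hv => ?_, fun p hp => ?_, ?_⟩
  · calc q⁻¹ * n * v = ((q⁻¹ * n) * v * (q⁻¹ * n)⁻¹) * (q⁻¹ * n) := by group
      _ = _ := by rw [hbQ v hv]
  · have h1 : (q⁻¹ * n) * p * (q⁻¹ * n)⁻¹ * p⁻¹ ∈ Q := by
      have h2 := hn.1.2 p hp
      have e : (q⁻¹ * n) * p * (q⁻¹ * n)⁻¹ * p⁻¹ = q⁻¹ * (n * p * n⁻¹ * p⁻¹) * (p * q * p⁻¹) := by group
      rw [e]
      exact mul_mem (mul_mem (inv_mem hq) h2) (S.PQ p hp q hq)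
    apply S.ZQ _ h1
    intro v hv
    have h2 := hbQ _ (S.PQ p⁻¹ (inv_mem hp) v hv)
    rw [inv_inv] at h2
    have h3 := hbQ v hv
    set b := q⁻¹ * n with hb
    calc b * p * b⁻¹ * p⁻¹ * v = (b * p * b⁻¹) * (p⁻¹ * v * p) * p⁻¹ := by group
      _ = (b * p * b⁻¹) * (b * (p⁻¹ * v * p) * b⁻¹) * p⁻¹ := by rw [h2]
      _ = b * (v * p) * b⁻¹ * p⁻¹ := by group
      _ = (b * v * b⁻¹) * (b * p * b⁻¹ * p⁻¹) := by group
      _ = v * (b * p * b⁻¹ * p⁻¹) := by rw [h3]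
  · have hx : t * (n * t * n⁻¹) ∈ X := hn.1.1.2.2
    have e : n * t * n⁻¹ = t * (t * (n * t * n⁻¹)) := by rw [← mul_assoc, S.tt, one_mul]
    have c1 : (t * (t * (n * t * n⁻¹))) * q = q * (t * (t * (n * t * n⁻¹))) := by
      rw [mul_assoc, S.XP _ hx q hqP, ← mul_assoc, S.tP q hqP, mul_assoc]
    calc q⁻¹ * n * t * (q⁻¹ * n)⁻¹ = q⁻¹ * ((n * t * n⁻¹) * q) := by group
      _ = q⁻¹ * (q * (n * t * n⁻¹)) := by rw [e, c1]
      _ = n * t * n⁻¹ := by group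

/-- Averaging: modulo `V` the element centralises a subgroup `A ≤ P` of odd order. -/
theorem exists_avg (S : Chain t X V Q P H) {A : Subgroup G} [Finite A] (hAP : A ≤ P) (hodd : Odd (Nat.card A))
    {b : G} (hbQ : ∀ q ∈ Q, b * q = q * b) (hbP : ∀ p ∈ P, b * p * b⁻¹ * p⁻¹ ∈ V) :
    ∃ b' : G, (∀ q ∈ Q, b' * q = q * b') ∧ (∀ p ∈ P, b' * p * b'⁻¹ * p⁻¹ ∈ V) ∧ (∀ a ∈ A, b' * a = a * b') ∧
      b' * t * b'⁻¹ = b * t * b⁻¹ ∧ b'⁻¹ * b ∈ V := by
  classical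
  haveI : Fintype A := Fintype.ofFinite A
  letI : CommGroup V := { (inferInstance : Group V) with
    mul_comm := fun x y => Subtype.ext (S.VQc x x.2 y (S.VQ y.2)) }
  let δ : A → V := fun a => ⟨b * a * b⁻¹ * (a : G)⁻¹, hbP a (hAP a.2)⟩
  let v0 : V := ∏ a : A, δ a
  -- conjugation by `g ∈ A` as a homomorphism of `V`
  let cg : A → V →* V := fun g =>
    { toFun := fun v => ⟨g * v * (g : G)⁻¹, S.PV g (hAP g.2) v v.2⟩
      map_one' := Subtype.ext (by show (g : G) * 1 * (g : G)⁻¹ = 1; group)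
      map_mul' := fun x y => Subtype.ext (by
        show (g : G) * (x * y) * (g : G)⁻¹ = g * x * (g : G)⁻¹ * (g * y * (g : G)⁻¹)
        group) }
  have hδ : ∀ g a : A, δ (g * a) = δ g * cg g (δ a) := by
    intro g a
    apply Subtype.ext
    show b * ((g : G) * a) * b⁻¹ * ((g : G) * a)⁻¹ =
      b * g * b⁻¹ * (g : G)⁻¹ * (g * (b * a * b⁻¹ * (a : G)⁻¹) * (g : G)⁻¹)
    group
  have hsq : ∀ v : V, v ^ 2 = 1 := fun v => Subtype.ext (by
    show (v : G) ^ 2 = 1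
    rw [pow_two]; exact S.V2 v v.2)
  have hv0 : ∀ g : A, v0 = δ g * cg g v0 := by
    intro g
    have h1 : v0 = ∏ a : A, δ (g * a) := (Equiv.prod_comp (Equiv.mulLeft g) δ).symm
    have h2 : ∏ a : A, δ (g * a) = δ g ^ Fintype.card A * cg g v0 := by
      rw [map_prod, ← Finset.card_univ, ← Finset.prod_const, ← Finset.prod_mul_distrib]
      exact Finset.prod_congr rfl fun a _ => hδ g a
    have h3 : δ g ^ Fintype.card A = δ g := by
      rw [Nat.card_eq_fintype_card] at hodd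
      obtain ⟨k, hk⟩ := hodd
      rw [hk, pow_succ, pow_mul, hsq, one_pow, one_mul]
    rw [h3] at h2
    exact h1.trans h2
  have hv0V : (v0 : G) ∈ V := v0.2
  have hinvV : (v0 : G)⁻¹ = v0 := inv_eq_of_mul_eq_one_left (S.V2 _ v0.2)
  refine ⟨(v0 : G)⁻¹ * b, fun q hq => ?_, fun p hp => ?_, fun a ha => ?_, ?_, ?_⟩
  · rw [mul_assoc, hbQ q hq, ← mul_assoc, S.VQc _ (inv_mem hv0V) q hq, mul_assoc]
  · have h1 := mul_mem (mul_mem (inv_mem hv0V) (hbP p hp)) (S.PV p hp _ hv0V)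
    have e : (v0 : G)⁻¹ * b * p * ((v0 : G)⁻¹ * b)⁻¹ * p⁻¹ =
      (v0 : G)⁻¹ * (b * p * b⁻¹ * p⁻¹) * (p * v0 * p⁻¹) := by group
    rwa [e]
  · have h1 := congrArg Subtype.val (hv0 ⟨a, ha⟩)
    have h2 : (v0 : G) = b * a * b⁻¹ * a⁻¹ * (a * v0 * a⁻¹) := h1
    have h3 : b * a = (v0 : G) * a * (v0 : G)⁻¹ * b := by
      calc b * a = (b * a * b⁻¹ * a⁻¹ * (a * v0 * a⁻¹)) * (a * (v0 : G)⁻¹ * a⁻¹) * a * b := by group
        _ = v0 * (a * (v0 : G)⁻¹ * a⁻¹) * a * b := by rw [← h2]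
        _ = _ := by group
    calc (v0 : G)⁻¹ * b * a = (v0 : G)⁻¹ * (b * a) := by group
      _ = (v0 : G)⁻¹ * ((v0 : G) * a * (v0 : G)⁻¹ * b) := by rw [h3]
      _ = a * ((v0 : G)⁻¹ * b) := by group
  · -- `b t b⁻¹` commutes with `v0`: `b` commutes with `v0`, `t` too
    have h1 := hbQ _ (S.VQ (inv_mem hv0V))
    have h2 := S.tP _ (S.QP (S.VQ (inv_mem hv0V)))
    calc (v0 : G)⁻¹ * b * t * ((v0 : G)⁻¹ * b)⁻¹ = ((v0 : G)⁻¹ * b) * t * b⁻¹ * v0 := by group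
      _ = b * ((v0 : G)⁻¹ * t) * b⁻¹ * v0 := by rw [← h1]; group
      _ = b * t * ((v0 : G)⁻¹ * b⁻¹) * v0 := by rw [← h2]; group
      _ = b * t * (b⁻¹ * (v0 : G)⁻¹) * v0 := by
        congr 2
        have h3 := hbQ _ (S.VQ hv0V)
        rw [← mul_inv_rev, h3, mul_inv_rev]
      _ = b * t * b⁻¹ := by group
  · have h1 := hbQ _ (S.VQ hv0V)
    have e : ((v0 : G)⁻¹ * b)⁻¹ * b = v0 := by
      calc ((v0 : G)⁻¹ * b)⁻¹ * b = b⁻¹ * (v0 * b) := by group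
        _ = v0 := by rw [← h1, inv_mul_cancel_left]
    rw [e]; exact hv0V

end Chain

end Cfsg.Agent.OddHalf.D7F4Ex

end

-- merged: Cfsg.Agent.OddHalf.D7F4Ex.Move
section

/-!
# Existence: `D` moves `t` (`q > 2`)

If `H ≤ C_G(t)` is transitive on `X#`, some `h ∈ H` is trivial on `P/Q` and not on `X`, and some `n` normalising `X`, `tX`
moves `t`, then for each `x ∈ X` some `b ∈ C_G(Q)` with `[b, P] ≤ V` has `b t b⁻¹ = t x`.
-/

set_option autoImplicit false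
set_option linter.style.haveILetI false

namespace Cfsg.Agent.OddHalf.D7F4Ex.Chain

open Subgroup
open scoped commutatorElement

variable {G : Type*} [Group G] {t : G} {X V Q P H : Subgroup G}

theorem H_le (S : Chain t X V Q P H) : H ≤ S.N := by
  intro h hh
  refine ⟨S.HX h hh, fun x hx => by simpa using S.HX h⁻¹ (inv_mem hh) x hx, ?_⟩
  have e : t * (h * t * h⁻¹) = 1 := by
    rw [← S.tH h hh]
    calc t * (t * h * h⁻¹) = t * t := by group
      _ = 1 := S.tt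
  rw [e]; exact one_mem _

/-- The coset `tX`. -/
def Om (t : G) (X : Subgroup G) : Type _ := {y : G // t * y ∈ X}

instance actOm (S : Chain t X V Q P H) : MulAction S.N (Om t X) where
  smul n y := ⟨n * y.1 * (n : G)⁻¹, by
    obtain ⟨y, hy⟩ := y
    have h1 := mul_mem n.2.2.2 (n.2.1 _ hy)
    have e : t * ((n : G) * y * (n : G)⁻¹) = t * ((n : G) * t * (n : G)⁻¹) * ((n : G) * (t * y) * (n : G)⁻¹) := by
      calc t * ((n : G) * y * (n : G)⁻¹) = t * (n : G) * 1 * y * (n : G)⁻¹ := by group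
        _ = t * (n : G) * (t * t) * y * (n : G)⁻¹ := by rw [S.tt]
        _ = _ := by group
    show t * ((n : G) * y * (n : G)⁻¹) ∈ X
    rwa [e]⟩
  one_smul y := Subtype.ext (by
    show ((1 : S.N) : G) * y.1 * ((1 : S.N) : G)⁻¹ = y.1
    simp)
  mul_smul a b y := Subtype.ext (by
    show ((a * b : S.N) : G) * y.1 * ((a * b : S.N) : G)⁻¹ = (a : G) * ((b : G) * y.1 * (b : G)⁻¹) * (a : G)⁻¹
    rw [Subgroup.coe_mul]; group)

/-- the point `t` -/
def pt (S : Chain t X V Q P H) : Om t X := ⟨t, by rw [S.tt]; exact one_mem _⟩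

theorem isPGroup_X (S : Chain t X V Q P H) : IsPGroup 2 X := by
  rintro ⟨x, hx⟩
  exact ⟨1, Subtype.ext (by
    show x ^ (2 ^ 1) = 1
    rw [pow_one, pow_two]; exact S.X2 x hx)⟩

theorem card_Om (S : Chain t X V Q P H) : Nat.card (Om t X) = Nat.card X := by
  refine Nat.card_congr ⟨fun y => ⟨t * y.1, y.2⟩, fun x => ⟨t * x.1, ?_⟩, fun y => ?_, fun x => ?_⟩
  · rw [← mul_assoc, S.tt, one_mul]; exact x.2
  · apply Subtype.ext
    show t * (t * y.1) = y.1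
    rw [← mul_assoc, S.tt, one_mul]
  · apply Subtype.ext
    show t * (t * x.1) = x.1
    rw [← mul_assoc, S.tt, one_mul]

/-- `N` is transitive on `tX`. -/
theorem exists_N (S : Chain t X V Q P H)
    (Htr : ∀ x ∈ X, ∀ y ∈ X, x ≠ 1 → y ≠ 1 → ∃ h ∈ H, h * x * h⁻¹ = y)
    {n : G} (hn : n ∈ S.N) (hnt : n * t * n⁻¹ ≠ t) {x : G} (hx : x ∈ X) :
    ∃ m ∈ S.N, m * t * m⁻¹ = t * x := by
  by_cases h1 : x = 1
  · exact ⟨1, one_mem _, by rw [h1]; group⟩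
  · set z := t * (n * t * n⁻¹) with hz
    have hzX : z ∈ X := hn.2.2
    have hz1 : z ≠ 1 := by
      intro h
      apply hnt
      have : t * (n * t * n⁻¹) = t * t := by rw [← hz, h, S.tt]
      exact mul_left_cancel this
    obtain ⟨h, hh, hhz⟩ := Htr z hzX x hx hz1 h1
    refine ⟨h * n, mul_mem (S.H_le hh) hn, ?_⟩
    have e1 : n * t * n⁻¹ = t * z := by rw [hz, ← mul_assoc, S.tt, one_mul]
    calc h * n * t * (h * n)⁻¹ = h * (n * t * n⁻¹) * h⁻¹ := by group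
      _ = h * t * z * h⁻¹ := by rw [e1]; group
      _ = t * (h * z * h⁻¹) := by rw [← S.tH h hh]; group
      _ = t * x := by rw [hhz]

/-- An odd power of each element of `C4` lies in `D`; the index is odd. -/
theorem odd_relIndex (S : Chain t X V Q P H) [Finite G] : Odd (S.D.relIndex S.C4) := by
  classical
  haveI : Fact (Nat.Prime 2) := ⟨Nat.prime_two⟩
  let R : Sylow 2 S.C4 := default
  have h1 : (R : Subgroup S.C4) ≤ S.D.subgroupOf S.C4 := by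
    intro g hg
    rw [mem_subgroupOf]
    obtain ⟨k, hk⟩ := (IsPGroup.iff_orderOf.1 R.isPGroup') ⟨g, hg⟩
    have h2 : (g : G) ^ 2 ^ k = 1 := by
      have h3 : (⟨g, hg⟩ : (R : Subgroup S.C4)) ^ 2 ^ k = 1 := by rw [← hk, pow_orderOf_eq_one]
      have h4 := congrArg (fun z : (R : Subgroup S.C4) => ((z : S.C4) : G)) h3
      exact h4
    exact S.mem_D_of_two g.2 h2
  have h5 : (S.D.subgroupOf S.C4).index ∣ (R : Subgroup S.C4).index := index_dvd_of_le h1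
  have h6 : ¬ 2 ∣ (R : Subgroup S.C4).index := R.not_dvd_index
  rw [relIndex, ← Nat.not_even_iff_odd, even_iff_two_dvd]
  exact fun h => h6 (h.trans h5)

/-- `D` moves `t`. -/
theorem exists_move (S : Chain t X V Q P H) [Finite G]
    (Htr : ∀ x ∈ X, ∀ y ∈ X, x ≠ 1 → y ≠ 1 → ∃ h ∈ H, h * x * h⁻¹ = y)
    (Hne : ∃ h ∈ H, (∀ p ∈ P, h * p * h⁻¹ * p⁻¹ ∈ Q) ∧ ∃ x ∈ X, h * x * h⁻¹ ≠ x)
    {n : G} (hn : n ∈ S.N) (hnt : n * t * n⁻¹ ≠ t) : ∃ d ∈ S.D, d * t * d⁻¹ ≠ t := by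
  classical
  by_contra hcon
  push Not at hcon
  letI := S.actOm
  haveI : Finite (Om t X) := by unfold Om; infer_instance
  haveI htrans : MulAction.IsPretransitive S.N (Om t X) := by
    refine (MulAction.isPretransitive_iff_base S.pt).2 fun y => ?_
    obtain ⟨m, hm, hmt⟩ := S.exists_N Htr hn hnt y.2
    refine ⟨⟨m, hm⟩, Subtype.ext ?_⟩
    show m * t * m⁻¹ = y.1
    rw [hmt, ← mul_assoc, S.tt, one_mul]
  let C := S.C4.subgroupOf S.N
  haveI hCn : C.Normal := ⟨by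
    intro c hc g
    rw [mem_subgroupOf] at hc ⊢
    exact S.conj_C4 g.2 hc⟩
  have hb : MulAction.IsBlock S.N (MulAction.orbit C S.pt) := MulAction.IsBlock.orbit_of_normal _
  have hdvd := hb.ncard_dvd_card ⟨_, MulAction.mem_orbit_self _⟩
  rw [S.card_Om] at hdvd
  have hodd : Odd (MulAction.orbit C S.pt).ncard := by
    rw [← MulAction.index_stabilizer]
    have h1 : (S.D.subgroupOf S.N).subgroupOf C ≤ MulAction.stabilizer C S.pt := by
      intro g hg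
      rw [mem_subgroupOf, mem_subgroupOf] at hg
      rw [MulAction.mem_stabilizer_iff]
      exact Subtype.ext (hcon _ hg)
    have h2 := index_dvd_of_le h1
    have h3 : ((S.D.subgroupOf S.N).subgroupOf C).index = S.D.relIndex S.C4 := by
      show (S.D.subgroupOf S.N).relIndex C = _
      exact relIndex_subgroupOf S.C4_le
    rw [h3] at h2
    exact Odd.of_dvd_nat S.odd_relIndex h2
  obtain ⟨k, hk⟩ := IsPGroup.iff_card.1 S.isPGroup_X
  rw [hk] at hdvd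
  have h1 : (MulAction.orbit C S.pt).ncard = 1 := by
    have h2 : (MulAction.orbit C S.pt).ncard.Coprime (2 ^ k) :=
      Nat.Coprime.pow_right _ (Nat.coprime_two_right.2 hodd)
    exact Nat.eq_one_of_dvd_coprimes h2 dvd_rfl hdvd |>.trans rfl
  have hfix : ∀ c ∈ S.C4, c * t * c⁻¹ = t := by
    intro c hc
    obtain ⟨a, ha⟩ := Set.ncard_eq_one.1 h1
    have e1 : S.pt ∈ MulAction.orbit C S.pt := MulAction.mem_orbit_self _
    have e2 : (⟨⟨c, hc.1⟩, hc⟩ : C) • S.pt ∈ MulAction.orbit C S.pt := MulAction.mem_orbit _ _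
    rw [ha, Set.mem_singleton_iff] at e1 e2
    have e3 := e2.trans e1.symm
    exact congrArg Subtype.val e3
  obtain ⟨h, hh, hhP, x, hx, hne⟩ := Hne
  apply hne
  obtain ⟨m, hm, hmt⟩ := S.exists_N Htr hn hnt hx
  have h2 := hfix _ (S.conj_C4 (inv_mem hm) ⟨S.H_le hh, hhP⟩)
  -- `h` fixes `m t m⁻¹ = t x`
  have h3 : h * (t * x) * h⁻¹ = t * x := by
    rw [← hmt]
    calc h * (m * t * m⁻¹) * h⁻¹ = m * ((m⁻¹ * h * m⁻¹⁻¹) * t * (m⁻¹ * h * m⁻¹⁻¹)⁻¹) * m⁻¹ := by group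
      _ = m * t * m⁻¹ := by rw [h2]
  have h4 : t * (h * x * h⁻¹) = t * x := by
    rw [← h3, ← mul_assoc t, ← mul_assoc t, S.tH h hh]; group
  exact mul_left_cancel h4

/-- **Existence.** -/
theorem exists_cent_of_big (S : Chain t X V Q P H) [Finite G]
    (Htr : ∀ x ∈ X, ∀ y ∈ X, x ≠ 1 → y ≠ 1 → ∃ h ∈ H, h * x * h⁻¹ = y)
    (Hne : ∃ h ∈ H, (∀ p ∈ P, h * p * h⁻¹ * p⁻¹ ∈ Q) ∧ ∃ x ∈ X, h * x * h⁻¹ ≠ x)
    {n : G} (hn : n ∈ S.N) (hnt : n * t * n⁻¹ ≠ t) {A : Subgroup G} (hAP : A ≤ P) (hodd : Odd (Nat.card A))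
    {x : G} (hx : x ∈ X) :
    ∃ b : G, (∀ q ∈ Q, b * q = q * b) ∧ (∀ p ∈ P, b * p * b⁻¹ * p⁻¹ ∈ V) ∧ (∀ a ∈ A, b * a = a * b) ∧
      b * t * b⁻¹ = t * x := by
  obtain ⟨d, hd, hdt⟩ := S.exists_move Htr Hne hn hnt
  by_cases h1 : x = 1
  · exact ⟨1, fun p _ => by rw [one_mul, mul_one], fun p _ => by
      rw [one_mul, inv_one, mul_one, mul_inv_cancel]; exact one_mem _, fun p _ => by rw [one_mul, mul_one],
      by rw [h1]; group⟩
  set z := t * (d * t * d⁻¹) with hz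
  have hzX : z ∈ X := hd.1.1.2.2
  have hz1 : z ≠ 1 := by
    intro h
    apply hdt
    have : t * (d * t * d⁻¹) = t * t := by rw [← hz, h, S.tt]
    exact mul_left_cancel this
  obtain ⟨h, hh, hhz⟩ := Htr z hzX x hx hz1 h1
  obtain ⟨b, hb, hbP, hbt⟩ := S.exists_cent (S.conj_D (S.H_le hh) hd)
  obtain ⟨b', hb', hbP', hbA, hbt', -⟩ := S.exists_avg hAP hodd hb hbP
  refine ⟨b', hb', hbP', hbA, ?_⟩
  have e1 : d * t * d⁻¹ = t * z := by rw [hz, ← mul_assoc, S.tt, one_mul]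
  have e2 : h⁻¹ * t = t * h⁻¹ := (S.tH _ (inv_mem hh)).symm
  rw [hbt', hbt]
  calc h * d * h⁻¹ * t * (h * d * h⁻¹)⁻¹ = h * d * (h⁻¹ * t) * h * d⁻¹ * h⁻¹ := by group
    _ = h * (d * t * d⁻¹) * h⁻¹ := by rw [e2]; group
    _ = h * t * z * h⁻¹ := by rw [e1]; group
    _ = t * (h * z * h⁻¹) := by rw [← S.tH h hh]; group
    _ = t * x := by rw [hhz]

end Cfsg.Agent.OddHalf.D7F4Ex.Chain

end

-- merged: Cfsg.Agent.OddHalf.D7F4Ex.Exist
section

/-!
# Existence of `W_s` and its type (`C` or `O`) for `F₄(q)`, `q ≥ 4`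

`GData` = the data in `G`; `exists_b`: for `x ∈ X` some `b` with `b t b⁻¹ = t x` centralises
`P~ = ⟨Q, H ∩ C(X_s), l a b⟩` and `[b, c k u] = v k (κ u)`.
-/

set_option autoImplicit false
set_option linter.unusedSectionVars false
set_option linter.style.haveILetI false
set_option linter.unusedSimpArgs false

namespace Cfsg.Agent.OddHalf.D7F4Ex.Loc

open Subgroup

variable {F : Type*} [Field F] {G : Type*} [Group G] {x0 : F → G} {v : J → F → G} {z : Sp → F → G} {c : J → F → G}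
  {l : J → J → F → G} {th : (Fin 3 → Fˣ) →* G}

/-- the generators of `P~` -/
def gT (x0 : F → G) (v : J → F → G) (z : Sp → F → G) (l : J → J → F → G) (th : (Fin 3 → Fˣ) →* G) : Set G :=
  {g | g ∈ gV x0 v ∨ (∃ i a, g = z i a) ∨ (∃ j k a, j.1 ≠ k.1 ∧ g = l j k a) ∨ ∃ ν, g = th ν}

/-- `P~` : what is centralised by `W_s` in all cases -/
def Pt (x0 : F → G) (v : J → F → G) (z : Sp → F → G) (l : J → J → F → G) (th : (Fin 3 → Fˣ) →* G) : Subgroup G :=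
  closure (gT x0 v z l th)

theorem Pt_le_P : Pt x0 v z l th ≤ Ps x0 v z c l th := by
  refine closure_mono fun g hg => ?_
  rcases hg with h | h | h | h
  · exact Or.inl h
  · exact Or.inr (Or.inl h)
  · exact Or.inr (Or.inr (Or.inr (Or.inl h)))
  · exact Or.inr (Or.inr (Or.inr (Or.inr h)))

theorem Q_le_Pt : Qs x0 v z ≤ Pt x0 v z l th := closure_mono fun _ h => h.elim Or.inl fun h => Or.inr (Or.inl h)

/-- The data in `G`. -/
structure GData (t : G) (hs : Fˣ →* G) (x0 : F → G) (v : J → F → G) (z : Sp → F → G) (c : J → F → G)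
    (l : J → J → F → G) (th : (Fin 3 → Fˣ) →* G) : Prop where
  tt : t * t = 1
  tX : ∀ a, t ≠ x0 a
  tP : ∀ p ∈ Ps x0 v z c l th, t * p = p * t
  th' : ∀ a, t * hs a = hs a * t
  hs_x0 : ∀ μ a, hs μ * x0 a * (hs μ)⁻¹ = x0 ((μ : F) ^ 2 * a)
  hs_v : ∀ μ j a, hs μ * v j a * (hs μ)⁻¹ = v j ((μ : F) ^ 2 * a)
  hs_z : ∀ μ i a, hs μ * z i a * (hs μ)⁻¹ = z i ((μ : F) * a)
  hs_c : ∀ μ j a, hs μ * c j a = c j a * hs μ
  hs_l : ∀ μ j k a, j.1 ≠ k.1 → hs μ * l j k a = l j k a * hs μ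
  hs_th : ∀ μ ν, hs μ * th ν = th ν * hs μ
  /-- an element normalising `X` and `t X` normalises `P`, `Q`, `V` -/
  nP : ∀ n : G, (∀ x ∈ Xs x0, n * x * n⁻¹ ∈ Xs x0) → t * (n * t * n⁻¹) ∈ Xs x0 →
    (∀ p ∈ Ps x0 v z c l th, n * p * n⁻¹ ∈ Ps x0 v z c l th) ∧ (∀ q ∈ Qs x0 v z, n * q * n⁻¹ ∈ Qs x0 v z) ∧
      (∀ y ∈ Vs x0 v, n * y * n⁻¹ ∈ Vs x0 v)
  cP : ∀ g, t * g = g * t → (∀ p ∈ Pt x0 v z l th, g * p = p * g) → g ∈ Xs x0 ∨ t * g ∈ Xs x0

section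

variable (L : Loc x0 v z c l th)

include L

theorem odd_card [Finite F] : Odd (Nat.card Fˣ) := by
  classical
  haveI := Fintype.ofFinite F
  haveI : CharP F 2 := by
    refine CharTwo.of_one_ne_zero_of_two_eq_zero one_ne_zero ?_
    have := L.two 1
    rwa [one_add_one_eq_two] at this
  have h1 : Fintype.card F % 2 = 0 := FiniteField.even_card_of_char_two ((CharP.ringChar_of_prime_eq_zero
    Nat.prime_two (by have := L.two 1; rw [one_add_one_eq_two] at this; exact_mod_cast this)))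
  have h2 : Nat.card Fˣ = Fintype.card F - 1 := by
    rw [Nat.card_eq_fintype_card, Fintype.card_units]
  have h3 : 0 < Fintype.card F := Fintype.card_pos
  rw [h2]
  rw [Nat.odd_iff]
  omega

theorem odd_range [Finite F] : Odd (Nat.card th.range) := by
  have h1 : Nat.card th.range ∣ Nat.card (Fin 3 → Fˣ) := by
    exact Subgroup.card_range_dvd th
  refine Odd.of_dvd_nat ?_ h1
  rw [Nat.card_fun]
  exact (L.odd_card).pow

variable {t : G} {hs : Fˣ →* G} (D : GData t hs x0 v z c l th)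

include D

/-- The chain. -/
theorem chain [Finite F] : Chain t (Xs x0) (Vs x0 v) (Qs x0 v z) (Ps x0 v z c l th) hs.range where
  tt := D.tt
  tX := fun h => by
    obtain ⟨a, ha⟩ := L.mem_X.1 h
    exact D.tX a ha
  X2 := fun x hx => L.V2 (z := z) (X_le_V hx)
  XV := X_le_V
  VQ := V_le_Q
  QP := Q_le_P
  V2 := fun x hx => L.V2 (z := z) hx
  Q2 := fun x hx => L.Q2 hx
  tP := D.tP
  XP := fun x hx p hp => L.XP hx hp
  VQc := fun x hx q hq => L.VQ hx hq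
  PQ := fun p hp q hq => L.PQ hp hq
  PV := fun p hp q hq => L.PV hp hq
  tH := by rintro _ ⟨a, rfl⟩; exact D.th' a
  HX := by
    rintro _ ⟨μ, rfl⟩ x hx
    obtain ⟨a, rfl⟩ := L.mem_X.1 hx
    rw [D.hs_x0]; exact L.x0_mem _
  nP := D.nP
  XQQ := L.X_le_comm
  QQ := fun x hx y hy => L.QQ hx hy
  ZQ := fun q hq h => L.ZQ hq h
  irrQ := fun R h1 h2 h3 => L.irrQ h1 h2 h3
  irrV := fun R h1 h2 h3 => L.irrV h1 h2 h3
  neQ := L.neQ
  neV := L.neV
  hQ := fun d h1 h2 _ => L.hQ h1 h2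
  hV := fun d h1 h2 _ => L.hV h1 h2
  E2 := L.E2

omit D

/-- uniqueness of `x0 α * v k β` -/
theorem x0v_unique {k : J} {α β α' β' : F} (h : x0 α * v k β = x0 α' * v k β') : α = α' ∧ β = β' := by
  have h1 : x0 (α' + α) = v k (β' + β) := by
    have h2 : (x0 α')⁻¹ * x0 α = v k β' * (v k β)⁻¹ := by
      calc (x0 α')⁻¹ * x0 α = (x0 α')⁻¹ * (x0 α * v k β) * (v k β)⁻¹ := by group
        _ = _ := by rw [h]; group
    rwa [inv_of_add L.two L.x0_add, inv_of_add L.two (L.v_add k), ← L.x0_add, ← L.v_add] at h2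
  have h3 := L.xv _ _ _ h1
  have h4 := (L.add_eq_zero h3).symm
  refine ⟨?_, h4⟩
  rw [h3, zero_of_add (L.v_add k)] at h1
  exact (L.add_eq_zero (L.x0_inj _ h1)).symm

/-- the properties of `b` -/
structure Bp (x0 : F → G) (v : J → F → G) (z : Sp → F → G) (c : J → F → G) (l : J → J → F → G)
    (th : (Fin 3 → Fˣ) →* G) (b : G) : Prop where
  Q : ∀ q ∈ Qs x0 v z, b * q = q * b
  P : ∀ p ∈ Ps x0 v z c l th, b * p * b⁻¹ * p⁻¹ ∈ Vs x0 v
  A : ∀ ν, b * th ν = th ν * b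

/-- the commutator with `b` transforms under the torus as the element does -/
theorem Bp.torus {b : G} (B : Bp x0 v z c l th b) (ν : Fin 3 → Fˣ) (p p' : G) (h : th ν * p * (th ν)⁻¹ = p') :
    th ν * (b * p * b⁻¹ * p⁻¹) * (th ν)⁻¹ = b * p' * b⁻¹ * p'⁻¹ := by
  have h1 := B.A ν
  have h2 : (th ν)⁻¹ * b⁻¹ = b⁻¹ * (th ν)⁻¹ := by rw [← mul_inv_rev, h1, mul_inv_rev]
  rw [← h]
  calc th ν * (b * p * b⁻¹ * p⁻¹) * (th ν)⁻¹ = (th ν * b) * p * b⁻¹ * p⁻¹ * (th ν)⁻¹ := by group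
    _ = b * th ν * p * b⁻¹ * p⁻¹ * (th ν)⁻¹ := by rw [← h1]
    _ = b * th ν * p * (b⁻¹ * (th ν)⁻¹) * th ν * p⁻¹ * (th ν)⁻¹ := by group
    _ = b * th ν * p * ((th ν)⁻¹ * b⁻¹) * th ν * p⁻¹ * (th ν)⁻¹ := by rw [h2]
    _ = _ := by group

/-- a coordinate vanishes if the torus moves it -/
theorem CoV.eq_zero {g : G} {r : F} {ω : J → F} (h : L.CoV g r ω) {ν : Fin 3 → Fˣ}
    (h1 : th ν * g * (th ν)⁻¹ = g) {j : J} (hj : wt ν j ≠ 1) : ω j = 0 := by
  have h2 := CoV.torus L h ν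
  rw [h1] at h2
  have h3 := congrFun (CoV.unique L h h2) j
  have h4 : ((wt ν j : F) + 1) * ω j = 0 := by
    have h5 := L.two (ω j)
    calc ((wt ν j : F) + 1) * ω j = (wt ν j : F) * ω j + ω j := by ring
      _ = ω j + ω j := by rw [← h3]
      _ = 0 := h5
  rcases mul_eq_zero.1 h4 with h5 | h5
  · exfalso; apply hj
    exact Units.ext (L.add_eq_zero h5)
  · exact h5

theorem sq_ne {μ : Fˣ} (h : μ ≠ 1) : μ ^ 2 ≠ 1 := by
  intro h2
  apply h
  have h3 : (μ : F) ^ 2 = 1 := by rw [← Units.val_pow_eq_pow_val, h2, Units.val_one]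
  have h4 : ((μ : F) + 1) * ((μ : F) + 1) = 0 := by
    calc ((μ : F) + 1) * ((μ : F) + 1) = (μ : F) ^ 2 + 1 + ((μ : F) + μ) := by ring
      _ = 0 := by rw [h3, L.two, L.two, add_zero]
  exact Units.ext (L.add_eq_zero (mul_self_eq_zero.1 h4))

/-- `b` commutes with the root groups of the other length orthogonal to `s` -/
theorem Bp.comm_l {b : G} (B : Bp x0 v z c l th b) {j k : J} (hjk : j.1 ≠ k.1) (u : F) : b * l j k u = l j k u * b := by
  obtain ⟨μ, hμ⟩ := L.big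
  have hμ2 := L.sq_ne hμ
  have key : ∀ u, ∃ r, b * l j k u * b⁻¹ * (l j k u)⁻¹ = x0 r := by
    intro u
    obtain ⟨r, ω, hω⟩ := L.exists_coV (B.P _ (l_mem hjk u))
    refine ⟨r, ?_⟩
    have h0 : ω = 0 := by
      funext m
      -- a torus element trivial on `l j k` and not on `v m`
      obtain ⟨ν, hν1, hν2⟩ : ∃ ν : Fin 3 → Fˣ, wt ν j * wt ν k = 1 ∧ wt ν m ≠ 1 := by
        by_cases hm : m.1 = j.1 ∨ m.1 = k.1
        · refine ⟨fun i => if i = j.1 then μ else if i = k.1 then (if j.2 = k.2 then μ⁻¹ else μ) else 1, ?_, ?_⟩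
          · rcases j with ⟨j, sj⟩
            rcases k with ⟨k, sk⟩
            simp only at hjk
            cases sj <;> cases sk <;> simp [wt, hjk, Ne.symm hjk]
          · rcases j with ⟨j, sj⟩
            rcases k with ⟨k, sk⟩
            rcases m with ⟨m, sm⟩
            simp only at hjk hm
            have hμi : (μ⁻¹) ^ 2 ≠ 1 := by
              rw [inv_pow]; exact fun h => hμ2 (inv_eq_one.1 h)
            rcases hm with rfl | rfl
            · cases sm <;> simp [wt, hμ2, hμi]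
            · cases sm <;> cases sj <;> cases sk <;> simp [wt, Ne.symm hjk, hμ2, hμi]
        · push Not at hm
          refine ⟨fun i => if i = m.1 then μ else 1, ?_, ?_⟩
          · simp [wt, Ne.symm hm.1, Ne.symm hm.2]
          · have hμi : (μ⁻¹) ^ 2 ≠ 1 := by
              rw [inv_pow]; exact fun h => hμ2 (inv_eq_one.1 h)
            rcases m with ⟨m, sm⟩
            cases sm <;> simp [wt, hμ2, hμi]
      have h1 : th ν * (b * l j k u * b⁻¹ * (l j k u)⁻¹) * (th ν)⁻¹ = b * l j k u * b⁻¹ * (l j k u)⁻¹ := by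
        refine Bp.torus L B ν _ _ ?_
        rw [L.th_l _ _ _ _ hjk, ← Units.val_mul, hν1, Units.val_one, one_mul]
      exact CoV.eq_zero L hω h1 hν2
    rw [h0] at hω
    exact CoV.mem_X L hω
  choose g hg using key
  have hadd : ∀ u u', g (u + u') = g u + g u' := by
    intro u u'
    have h1 := hg (u + u')
    rw [L.l_add _ _ _ _ hjk] at h1
    have h2 := L.x0_l (g u') j k u hjk
    have h3 : x0 (g u + g u') = x0 (g (u + u')) := by
      rw [← h1, L.x0_add, ← hg u, ← hg u']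
      have h4 : (b * l j k u' * b⁻¹ * (l j k u')⁻¹) * (l j k u)⁻¹ =
          (l j k u)⁻¹ * (b * l j k u' * b⁻¹ * (l j k u')⁻¹) := by
        rw [hg u', inv_of_add L.two (fun a b => L.l_add j k a b hjk), h2]
      calc b * l j k u * b⁻¹ * (l j k u)⁻¹ * (b * l j k u' * b⁻¹ * (l j k u')⁻¹)
          = b * l j k u * b⁻¹ * ((l j k u)⁻¹ * (b * l j k u' * b⁻¹ * (l j k u')⁻¹)) := by group
        _ = b * l j k u * b⁻¹ * ((b * l j k u' * b⁻¹ * (l j k u')⁻¹) * (l j k u)⁻¹) := by rw [h4]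
        _ = _ := by group
    have h5 : x0 (g (u + u') + (g u + g u')) = 1 := by
      rw [L.x0_add, h3, self_of_add L.two L.x0_add]
    exact L.add_eq_zero (L.x0_inj _ h5)
  -- invariance under the torus
  obtain ⟨ν, hν1, hν2⟩ : ∃ ν : Fin 3 → Fˣ, wt ν j * wt ν k ≠ 1 ∧ True := by
    refine ⟨fun i => if i = j.1 then μ else 1, ?_, trivial⟩
    have hμi : (μ⁻¹) ^ 2 ≠ 1 := by
      rw [inv_pow]; exact fun h => hμ2 (inv_eq_one.1 h)
    rcases j with ⟨j, sj⟩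
    rcases k with ⟨k, sk⟩
    simp only at hjk
    cases sj <;> cases sk <;> simp [wt, hμ2, hμi, Ne.symm hjk]
  have hinv : ∀ u, g ((wt ν j * wt ν k : Fˣ) * u) = g u := by
    intro u
    have h1 := Bp.torus L B ν (l j k u) _ rfl
    rw [hg, L.th_x0, mul_inv_cancel_right, L.th_l _ _ _ _ hjk, ← Units.val_mul, hg] at h1
    have h5 : x0 (g ((wt ν j * wt ν k : Fˣ) * u) + g u) = 1 := by
      rw [L.x0_add, h1, self_of_add L.two L.x0_add]
    exact L.add_eq_zero (L.x0_inj _ h5)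
  have h0 := L.add_zero_of_inv hadd (fun h => hν1 (Units.ext h)) hinv u
  have h1 := hg u
  rw [h0, zero_of_add L.x0_add] at h1
  calc b * l j k u = (b * l j k u * b⁻¹ * (l j k u)⁻¹) * (l j k u * b) := by group
    _ = _ := by rw [h1, one_mul]

/-- the commutator of `b` with the root groups of the same length orthogonal to `s` -/
theorem Bp.exists_c [Finite F] {b : G} (B : Bp x0 v z c l th b) (k : J) :
    ∃ κ : F, ∀ u, b * c k u * b⁻¹ = v k (κ * u) * c k u := by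
  obtain ⟨μ, hμ⟩ := L.big
  have hμ2 := L.sq_ne hμ
  have hμi : (μ⁻¹) ^ 2 ≠ 1 := by
    rw [inv_pow]; exact fun h => hμ2 (inv_eq_one.1 h)
  have key : ∀ u, ∃ r φ, b * c k u * b⁻¹ * (c k u)⁻¹ = x0 r * v k φ := by
    intro u
    obtain ⟨r, ω, hω⟩ := L.exists_coV (B.P _ (c_mem k u))
    refine ⟨r, ω k, ?_⟩
    have h0 : ω = Pi.single k (ω k) := by
      funext m
      by_cases hmk : m = k
      · rw [hmk, Pi.single_eq_same]
      rw [Pi.single_eq_of_ne hmk]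
      by_cases hm : m = ng k
      · -- `c` is an involution
        set δ := b * c k u * b⁻¹ * (c k u)⁻¹ with hδ
        have hcc := self_of_add L.two (L.c_add k) u
        have h1 : (b * c k u * b⁻¹) * (b * c k u * b⁻¹) = 1 := by
          calc (b * c k u * b⁻¹) * (b * c k u * b⁻¹) = b * (c k u * c k u) * b⁻¹ := by group
            _ = 1 := by rw [hcc]; group
        have h2 : b * c k u * b⁻¹ = δ * c k u := by rw [hδ]; group
        rw [h2] at h1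
        have h3 : c k u * δ * (c k u)⁻¹ = δ := by
          have h4 : δ * δ = 1 := L.V2 (z := z) (B.P _ (c_mem k u))
          calc c k u * δ * (c k u)⁻¹ = δ⁻¹ * (δ * c k u * (δ * c k u)) * (c k u * c k u)⁻¹ := by group
            _ = δ⁻¹ := by rw [h1, hcc]; group
            _ = δ := inv_eq_of_mul_eq_one_left h4
        by_cases hu : u = 0
        · have h4 : δ = 1 := by rw [hδ, hu, zero_of_add (L.c_add k)]; group
          have h5 : L.CoV δ 0 0 := by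
            rw [h4]
            refine ⟨by rw [L.vv_zero, mul_one, zero_of_add L.x0_add], fun k u => ?_⟩
            rw [Pi.zero_apply, mul_zero, mul_zero, zero_of_add L.x0_add, zero_of_add (L.v_add k), one_mul, one_mul,
              mul_one, mul_inv_cancel]
          rw [CoV.unique L hω h5]; rfl
        · have h4 := hω.act k u
          rw [h3] at h4
          have h5 : x0 (u * ω (ng k)) * v k (u ^ 2 * ω (ng k)) = x0 0 * v k 0 := by
            rw [zero_of_add L.x0_add, zero_of_add (L.v_add k), one_mul]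
            exact mul_right_cancel (b := δ) (by rw [one_mul]; exact h4.symm)
          have h6 := (L.x0v_unique h5).1
          rw [hm]
          exact (mul_eq_zero.1 h6).resolve_left hu
      · have hm1 : m.1 ≠ k.1 := by
          intro h
          rcases m with ⟨m, sm⟩
          rcases k with ⟨k, sk⟩
          simp only at h
          subst h
          cases sm <;> cases sk <;> simp_all [ng]
        refine CoV.eq_zero L hω (ν := fun i => if i = m.1 then μ else 1) ?_ ?_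
        · refine Bp.torus L B _ _ _ ?_
          rw [L.th_c]
          have : wt (fun i => if i = m.1 then μ else 1) k = 1 := by
            simp [wt, Ne.symm hm1]
          rw [this, Units.val_one, one_mul]
        · rcases m with ⟨m, sm⟩
          cases sm <;> simp [wt, hμ2, hμi]
    have h1 := hω.eq
    rw [h1]
    congr 1
    rw [h0, L.vv_single, Pi.single_eq_same]
  choose g φ hg using key
  have hck : k ≠ ng k := fun h => ng_ne k h.symm
  have hadd : ∀ u u', g (u + u') = g u + g u' ∧ φ (u + u') = φ u + φ u' := by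
    intro u u'
    apply L.x0v_unique (k := k)
    have h1 : x0 (g u') * v k (φ u') * c k u = c k u * (x0 (g u') * v k (φ u')) := by
      rw [← mul_assoc, ← L.x0_c, mul_assoc, mul_assoc, L.c_v' _ _ _ _ hck]
    have h2 := hg (u + u')
    rw [L.c_add] at h2
    rw [← h2]
    have h3 : b * (c k u * c k u') * b⁻¹ * (c k u * c k u')⁻¹ =
        (b * c k u * b⁻¹ * (c k u)⁻¹) * (c k u * (b * c k u' * b⁻¹ * (c k u')⁻¹) * (c k u)⁻¹) := by group
    rw [h3, hg u, hg u', ← h1, mul_inv_cancel_right, L.x0_add, L.v_add]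
    calc x0 (g u) * v k (φ u) * (x0 (g u') * v k (φ u')) = x0 (g u) * (v k (φ u) * x0 (g u')) * v k (φ u') := by
          group
      _ = _ := by rw [← L.x0_v]; group
  have htor : ∀ (a : Fˣ) u, g (a * u) = g u ∧ φ (a * u) = a * φ u := by
    intro a u
    obtain ⟨ν, hν⟩ := L.exists_wt k a
    apply L.x0v_unique (k := k)
    have h1 := Bp.torus L B ν (c k u) _ rfl
    rw [hg, L.th_c, hν, hg] at h1
    rw [← h1]
    calc th ν * (x0 (g u) * v k (φ u)) * (th ν)⁻¹ = (th ν * x0 (g u)) * (th ν)⁻¹ * (th ν * v k (φ u) * (th ν)⁻¹) := by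
          group
      _ = _ := by rw [L.th_x0, mul_inv_cancel_right, L.th_v, hν]
  refine ⟨φ 1, fun u => ?_⟩
  have h0 : g u = 0 := L.add_zero_of_inv (fun a b => (hadd a b).1) (fun h => hμ (Units.ext h))
    (fun a => (htor μ a).1) u
  have h1 : φ u = φ 1 * u := by
    by_cases hu : u = 0
    · have h2 := (hadd 0 0).2
      rw [add_zero] at h2
      have h3 : φ 0 = 0 := by
        have := L.two (φ 0)
        rw [← h2] at this; exact this
      rw [hu, h3, mul_zero]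
    · have h2 := (htor (Units.mk0 u hu) 1).2
      rw [Units.val_mk0, mul_one] at h2
      rw [h2, mul_comm]
  have h2 := hg u
  rw [h0, h1, zero_of_add L.x0_add, one_mul] at h2
  rw [← h2]; group

theorem Bp.exists_kappa [Finite F] {b : G} (B : Bp x0 v z c l th b) :
    ∃ κ : F, ∀ k u, b * c k u * b⁻¹ = v k (κ * u) * c k u := by
  choose κ hκ using fun k => Bp.exists_c L B k
  have step : ∀ a b' : J, a.1 ≠ b'.1 → κ (ng a) = κ b' := by
    intro a b' hab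
    have h1 := L.l_c a b' 1 1 hab
    rw [one_mul, one_pow, one_mul] at h1
    have hngb : (b').1 ≠ (ng a).1 := Ne.symm hab
    -- conjugate by `b`
    have e1 : b * (l a b' 1 * c (ng a) 1 * (l a b' 1)⁻¹) * b⁻¹ =
        l a b' 1 * (b * c (ng a) 1 * b⁻¹) * (l a b' 1)⁻¹ := by
      have h2 := Bp.comm_l L B hab 1
      have h3 : (l a b' 1)⁻¹ * b⁻¹ = b⁻¹ * (l a b' 1)⁻¹ := by rw [← mul_inv_rev, h2, mul_inv_rev]
      calc b * (l a b' 1 * c (ng a) 1 * (l a b' 1)⁻¹) * b⁻¹ = (b * l a b' 1) * c (ng a) 1 * ((l a b' 1)⁻¹ * b⁻¹) := by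
            group
        _ = _ := by rw [h2, h3]; group
    have e2 : l a b' 1 * (b * c (ng a) 1 * b⁻¹) * (l a b' 1)⁻¹ =
        v b' (κ (ng a)) * v (ng a) (κ (ng a)) * (c b' 1 * l b' (ng a) 1 * c (ng a) 1) := by
      rw [hκ, mul_one]
      calc l a b' 1 * (v (ng a) (κ (ng a)) * c (ng a) 1) * (l a b' 1)⁻¹
          = (l a b' 1 * v (ng a) (κ (ng a)) * (l a b' 1)⁻¹) * (l a b' 1 * c (ng a) 1 * (l a b' 1)⁻¹) := by group
        _ = _ := by rw [L.l_v _ _ _ _ hab, h1, one_mul]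
    have e3 : b * (c b' 1 * l b' (ng a) 1 * c (ng a) 1) * b⁻¹ =
        v b' (κ b') * v (ng a) (κ (ng a)) * (c b' 1 * l b' (ng a) 1 * c (ng a) 1) := by
      have h2 := Bp.comm_l L B hngb 1
      have hne1 : ng a ≠ ng b' := fun h => hab (congrArg Prod.fst h : (ng a).1 = (ng b').1)
      have hne2 : ng a ≠ ng (ng a) := fun h => ng_ne (ng a) h.symm
      have h3 := L.l_v' b' (ng a) 1 (ng a) (κ (ng a)) hngb hne1 hne2
      have h4 := L.c_v' b' 1 (ng a) (κ (ng a)) hne1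
      calc b * (c b' 1 * l b' (ng a) 1 * c (ng a) 1) * b⁻¹
          = (b * c b' 1 * b⁻¹) * (b * l b' (ng a) 1) * b⁻¹ * (b * c (ng a) 1 * b⁻¹) := by group
        _ = v b' (κ b') * c b' 1 * (l b' (ng a) 1 * v (ng a) (κ (ng a))) * c (ng a) 1 := by
          rw [hκ b', hκ (ng a), mul_one, mul_one, h2]; group
        _ = v b' (κ b') * (c b' 1 * v (ng a) (κ (ng a))) * l b' (ng a) 1 * c (ng a) 1 := by rw [h3]; group
        _ = _ := by rw [h4]; group
    have e4 := e1.symm.trans ((congrArg (fun y => b * y * b⁻¹) h1).trans e3)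
    rw [e2] at e4
    have e5 := mul_right_cancel (mul_right_cancel e4)
    have e6 : v b' (κ (ng a) + κ b') = 1 := by
      rw [L.v_add, e5, self_of_add L.two (L.v_add b')]
    exact L.add_eq_zero (L.v_inj e6)
  have hall : ∀ j k : J, κ j = κ k := by
    have h1 : ∀ j k : J, j.1 ≠ k.1 → κ j = κ k := by
      intro j k hjk
      have := step (ng j) k hjk
      rwa [ng_ng] at this
    intro j k
    by_cases h : j.1 = k.1
    · obtain ⟨i, hi⟩ : ∃ i : Fin 3, i ≠ j.1 := exists_ne _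
      rw [h1 j (i, true) (Ne.symm hi), h1 (i, true) k (by rw [← h]; exact hi)]
    · exact h1 j k h
  exact ⟨κ (0, true), fun k u => by rw [hκ k, hall k (0, true)]⟩

/-! ### The group `W` -/

theorem th_mem_Pt (ν : Fin 3 → Fˣ) : th ν ∈ Pt x0 v z l th := subset_closure (Or.inr (Or.inr (Or.inr ⟨ν, rfl⟩)))

theorem l_mem_Pt {j k : J} (h : j.1 ≠ k.1) (a : F) : l j k a ∈ Pt x0 v z l th :=
  subset_closure (Or.inr (Or.inr (Or.inl ⟨j, k, a, h, rfl⟩)))

/-- the elements `b` centralise `P~` -/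
theorem Bp.comm_Pt {b : G} (B : Bp x0 v z c l th b) {p : G} (hp : p ∈ Pt x0 v z l th) : b * p = p * b := by
  have hle : Pt x0 v z l th ≤ centralizer {b} := by
    rw [Pt, closure_le]
    intro g hg
    rw [SetLike.mem_coe, mem_centralizer_singleton_iff]
    rcases hg with h | ⟨i, a, rfl⟩ | ⟨j, k, a, h, rfl⟩ | ⟨ν, rfl⟩
    · exact (B.Q _ (V_le_Q (subset_closure h))).symm
    · exact (B.Q _ (z_mem i a)).symm
    · exact (Bp.comm_l L B h a).symm
    · exact (B.A ν).symm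
  exact (mem_centralizer_singleton_iff.1 (hle hp)).symm

include D

/-- **Existence.** -/
theorem exists_b [Finite F] [Finite G] {n : G} (hn1 : ∀ x ∈ Xs x0, n * x * n⁻¹ ∈ Xs x0)
    (hn2 : ∀ x ∈ Xs x0, n⁻¹ * x * n ∈ Xs x0) (hn3 : t * (n * t * n⁻¹) ∈ Xs x0) (hnt : n * t * n⁻¹ ≠ t) {x : G}
    (hx : x ∈ Xs x0) : ∃ b : G, Bp x0 v z c l th b ∧ b * t * b⁻¹ = t * x := by
  have S := L.chain D
  obtain ⟨μ, hμ⟩ := L.big
  obtain ⟨b, h1, h2, h3, h4⟩ := S.exists_cent_of_big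
    (by
      rintro x hx y hy hx1 hy1
      obtain ⟨a, rfl⟩ := L.mem_X.1 hx
      obtain ⟨a', rfl⟩ := L.mem_X.1 hy
      have ha : a ≠ 0 := fun h => hx1 (by rw [h, zero_of_add L.x0_add])
      have ha' : a' ≠ 0 := fun h => hy1 (by rw [h, zero_of_add L.x0_add])
      obtain ⟨β, hβ⟩ := L.exists_sqrt_unit (Units.mk0 a' ha' * (Units.mk0 a ha)⁻¹)
      refine ⟨hs β, ⟨β, rfl⟩, ?_⟩
      rw [D.hs_x0, ← Units.val_pow_eq_pow_val, hβ, Units.val_mul, Units.val_mk0, Units.val_inv_eq_inv_val,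
        Units.val_mk0, mul_assoc, inv_mul_cancel₀ ha, mul_one])
    (by
      refine ⟨hs μ, ⟨μ, rfl⟩, fun p hp => ?_, x0 1, L.x0_mem 1, fun h => ?_⟩
      · induction hp using closure_induction with
        | mem g hg =>
          have triv : hs μ * g = g * hs μ → hs μ * g * (hs μ)⁻¹ * g⁻¹ ∈ Qs x0 v z := fun h => by
            rw [h, mul_inv_cancel_right, mul_inv_cancel]; exact one_mem _
          rcases hg with (⟨b, rfl⟩ | ⟨j, b, rfl⟩) | ⟨i, b, rfl⟩ | ⟨j, b, rfl⟩ | ⟨j, k, b, h, rfl⟩ | ⟨ν, rfl⟩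
          · rw [D.hs_x0]
            exact mul_mem (V_le_Q (X_le_V (L.x0_mem _))) (inv_mem (V_le_Q (X_le_V (L.x0_mem _))))
          · rw [D.hs_v]; exact mul_mem (V_le_Q (v_mem _ _)) (inv_mem (V_le_Q (v_mem _ _)))
          · rw [D.hs_z]; exact mul_mem (z_mem _ _) (inv_mem (z_mem _ _))
          · exact triv (D.hs_c _ _ _)
          · exact triv (D.hs_l _ _ _ _ h)
          · exact triv (D.hs_th _ _)
        | one => rw [mul_one, mul_inv_cancel, inv_one, mul_one]; exact one_mem _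
        | mul g g' hg hg' ih1 ih2 =>
          have e : hs μ * (g * g') * (hs μ)⁻¹ * (g * g')⁻¹ =
            (hs μ * g * (hs μ)⁻¹ * g⁻¹) * (g * (hs μ * g' * (hs μ)⁻¹ * g'⁻¹) * g⁻¹) := by group
          rw [e]; exact mul_mem ih1 (L.PQ hg ih2)
        | inv g hg ih =>
          have e : hs μ * g⁻¹ * (hs μ)⁻¹ * g⁻¹⁻¹ = g⁻¹ * (hs μ * g * (hs μ)⁻¹ * g⁻¹)⁻¹ * g⁻¹⁻¹ := by group
          rw [e]; exact L.PQ (inv_mem hg) (inv_mem ih)
      · rw [D.hs_x0, mul_one] at h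
        have h1 : x0 ((μ : F) ^ 2 + 1) = 1 := by rw [L.x0_add, h, self_of_add L.two L.x0_add]
        have h2 := L.add_eq_zero (L.x0_inj _ h1)
        exact L.sq_ne hμ (Units.ext (by rw [Units.val_pow_eq_pow_val, h2, Units.val_one])))
    (show n ∈ S.N from ⟨hn1, hn2, hn3⟩) hnt (A := th.range)
    (by rintro _ ⟨ν, rfl⟩; exact th_mem ν) L.odd_range hx
  exact ⟨b, ⟨h1, h2, fun ν => h3 _ ⟨ν, rfl⟩⟩, h4⟩

/-- The hypotheses of `D7Ex.Cent` for `P~`. -/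
theorem cent [Finite F] [Finite G] {n : G} (hn1 : ∀ x ∈ Xs x0, n * x * n⁻¹ ∈ Xs x0)
    (hn2 : ∀ x ∈ Xs x0, n⁻¹ * x * n ∈ Xs x0) (hn3 : t * (n * t * n⁻¹) ∈ Xs x0) (hnt : n * t * n⁻¹ ≠ t) :
    D7Ex.Cent t (Xs x0) (Pt x0 v z l th) where
  tt := D.tt
  tX := (L.chain D).tX
  X2 := (L.chain D).X2
  XP := X_le_V.trans (V_le_Q.trans Q_le_Pt)
  tP := fun p hp => D.tP p (Pt_le_P hp)
  Xc := fun x hx p hp => L.XP hx (Pt_le_P hp)
  cP := D.cP
  ex := fun x hx => by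
    obtain ⟨b, hb, hbt⟩ := L.exists_b D hn1 hn2 hn3 hnt hx
    exact ⟨b, fun p hp => Bp.comm_Pt L hb hp, hbt⟩

/-- conjugation by `h_s(μ)` preserves `P~` -/
theorem hs_Pt (μ : Fˣ) {p : G} (hp : p ∈ Pt x0 v z l th) :
    hs μ * p * (hs μ)⁻¹ ∈ Pt x0 v z l th := by
  induction hp using closure_induction with
  | mem g hg =>
    have hg' : g ∈ Pt x0 v z l th := subset_closure hg
    have triv : hs μ * g = g * hs μ → hs μ * g * (hs μ)⁻¹ ∈ Pt x0 v z l th := fun h => by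
      rw [h, mul_inv_cancel_right]; exact hg'
    rcases hg with (⟨b, rfl⟩ | ⟨j, b, rfl⟩) | ⟨i, b, rfl⟩ | ⟨j, k, b, h, rfl⟩ | ⟨ν, rfl⟩
    · rw [D.hs_x0]; exact Q_le_Pt (V_le_Q (X_le_V (L.x0_mem _)))
    · rw [D.hs_v]; exact Q_le_Pt (V_le_Q (v_mem _ _))
    · rw [D.hs_z]; exact Q_le_Pt (z_mem _ _)
    · exact triv (D.hs_l _ _ _ _ h)
    · exact triv (D.hs_th _ _)
  | one => rw [mul_one, mul_inv_cancel]; exact one_mem _
  | mul g g' _ _ ih1 ih2 =>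
    have e : hs μ * (g * g') * (hs μ)⁻¹ = (hs μ * g * (hs μ)⁻¹) * (hs μ * g' * (hs μ)⁻¹) := by group
    rw [e]; exact mul_mem ih1 ih2
  | inv g _ ih =>
    have e : hs μ * g⁻¹ * (hs μ)⁻¹ = (hs μ * g * (hs μ)⁻¹)⁻¹ := by group
    rw [e]; exact inv_mem ih

theorem nice_hs (μ ρ : Fˣ) : D7Ex.Nice t (Xs x0) (Pt x0 v z l th) (hs μ) (hs ρ) where
  kt := (D.th' ρ).symm
  kX := by
    have h1 : ∀ (ρ : Fˣ) (x : G), x ∈ Xs x0 → hs ρ * x * (hs ρ)⁻¹ ∈ Xs x0 := by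
      intro ρ x hx
      obtain ⟨a, rfl⟩ := L.mem_X.1 hx
      rw [D.hs_x0]; exact L.x0_mem _
    intro x
    refine ⟨h1 ρ x, fun h => ?_⟩
    have h2 := h1 ρ⁻¹ _ h
    rw [map_inv] at h2
    have e : (hs ρ)⁻¹ * (hs ρ * x * (hs ρ)⁻¹) * (hs ρ)⁻¹⁻¹ = x := by group
    rwa [e] at h2
  kP := by
    intro p
    refine ⟨L.hs_Pt D ρ, fun h => ?_⟩
    have h2 := L.hs_Pt D ρ⁻¹ h
    rw [map_inv] at h2
    have e : (hs ρ)⁻¹ * (hs ρ * p * (hs ρ)⁻¹) * (hs ρ)⁻¹⁻¹ = p := by group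
    rwa [e] at h2
  kh := by
    rw [← map_mul, mul_comm ρ μ, map_mul, mul_inv_cancel_right, mul_inv_cancel]
    exact one_mem _

/-- The final properties of `W = W_s`. -/
structure IsW (t : G) (hs : Fˣ →* G) (x0 : F → G) (v : J → F → G) (z : Sp → F → G) (c : J → F → G)
    (l : J → J → F → G) (th : (Fin 3 → Fˣ) →* G) (W : Subgroup G) (κ c0 : F) : Prop where
  dbl : D7Ex.IsDbl t (Xs x0) (Pt x0 v z l th) W
  comm : ∀ w ∈ W, ∀ w' ∈ W, w * w' = w' * w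
  /-- squares -/
  sq : ∀ w ∈ W, ∀ a, w⁻¹ * (t * w * t) = x0 a → w * w = x0 (c0 * a)
  /-- type -/
  typ : ∀ w ∈ W, ∀ a, w⁻¹ * (t * w * t) = x0 a → ∀ k u, w * c k u * w⁻¹ = v k (κ * a * u) * c k u
  /-- the torus -/
  hsW : ∀ μ, ∀ w ∈ W, hs μ * w * (hs μ)⁻¹ ∈ W

/-- every element of `BG` acts on the `c k u` as some `b` -/
theorem exists_kappa_BG [Finite F] [Finite G] {n : G} (hn1 : ∀ x ∈ Xs x0, n * x * n⁻¹ ∈ Xs x0)
    (hn2 : ∀ x ∈ Xs x0, n⁻¹ * x * n ∈ Xs x0) (hn3 : t * (n * t * n⁻¹) ∈ Xs x0) (hnt : n * t * n⁻¹ ≠ t) {w : G}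
    (hw : ∀ p ∈ Pt x0 v z l th, w * p = p * w) (hw2 : t * (w * t * w⁻¹) ∈ Xs x0) :
    ∃ κ : F, ∀ k u, w * c k u * w⁻¹ = v k (κ * u) * c k u := by
  obtain ⟨b, hb, hbt⟩ := L.exists_b D hn1 hn2 hn3 hnt hw2
  obtain ⟨κ, hκ⟩ := Bp.exists_kappa L hb
  refine ⟨κ, fun k u => ?_⟩
  have h1 : b * t * b⁻¹ = w * t * w⁻¹ := by rw [hbt, ← mul_assoc, D.tt, one_mul]
  have h2 : t * (b⁻¹ * w) = b⁻¹ * w * t := by
    calc t * (b⁻¹ * w) = b⁻¹ * (b * t * b⁻¹) * w := by group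
      _ = b⁻¹ * w * t := by rw [h1]; group
  have h3 : ∀ p ∈ Pt x0 v z l th, b⁻¹ * w * p = p * (b⁻¹ * w) := by
    intro p hp
    have h4 := Bp.comm_Pt L hb hp
    have h5 := hw p hp
    calc b⁻¹ * w * p = b⁻¹ * (p * b) * b⁻¹ * w := by rw [mul_assoc, h5]; group
      _ = p * (b⁻¹ * w) := by rw [← h4]; group
  have h6 : (b⁻¹ * w) * c k u = c k u * (b⁻¹ * w) := by
    rcases D.cP _ h2 h3 with h | h
    · exact L.XP h (c_mem k u)
    · have h7 := L.XP (v := v) (z := z) (l := l) (th := th) h (c_mem k u)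
      have h8 := D.tP _ (c_mem k u)
      have h9 : t * (b⁻¹ * w * c k u) = t * (c k u * (b⁻¹ * w)) := by
        rw [← mul_assoc, h7, ← mul_assoc, ← mul_assoc t, h8]
      exact mul_left_cancel h9
  rw [← hκ k u]
  calc w * c k u * w⁻¹ = b * ((b⁻¹ * w) * c k u) * w⁻¹ := by group
    _ = b * c k u * b⁻¹ := by rw [h6]; group

/-- **The group `W_s` and its type.** -/
theorem exists_W [Finite F] [Finite G] {n : G} (hn1 : ∀ x ∈ Xs x0, n * x * n⁻¹ ∈ Xs x0)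
    (hn2 : ∀ x ∈ Xs x0, n⁻¹ * x * n ∈ Xs x0) (hn3 : t * (n * t * n⁻¹) ∈ Xs x0) (hnt : n * t * n⁻¹ ≠ t) :
    ∃ (μ : Fˣ) (W : Subgroup G) (κ c0 : F), IsW t hs x0 v z c l th W κ c0 ∧
      ∀ k, D7Ex.Nice t (Xs x0) (Pt x0 v z l th) (hs μ) k → ∀ w ∈ W, k * w * k⁻¹ ∈ W := by
  have C := L.cent D hn1 hn2 hn3 hnt
  obtain ⟨μ, hμ⟩ := L.big
  have hh := L.nice_hs D μ μ
  have hm : (hs μ) ^ Nat.card Fˣ = 1 := by rw [← map_pow, pow_card_eq_one', map_one]
  have hf : ∀ x ∈ Xs x0, hs μ * x * (hs μ)⁻¹ = x → x = 1 := by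
    intro x hx h
    obtain ⟨a, rfl⟩ := L.mem_X.1 hx
    rw [D.hs_x0] at h
    have h1 : x0 ((μ : F) ^ 2 * a + a) = 1 := by rw [L.x0_add, h, self_of_add L.two L.x0_add]
    have h2 := L.x0_inj _ h1
    have h3 : ((μ : F) ^ 2 + 1) * a = 0 := by rw [← h2]; ring
    rcases mul_eq_zero.1 h3 with h4 | h4
    · exfalso
      exact L.sq_ne hμ (Units.ext (by
        rw [Units.val_pow_eq_pow_val, Units.val_one]; exact L.add_eq_zero h4))
    · rw [h4, zero_of_add L.x0_add]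
  have hdbl := C.isDbl_big hh hm L.odd_card hf
  set W := C.Wbig hh (Nat.card Fˣ) with hW
  have hnice : ∀ k, D7Ex.Nice t (Xs x0) (Pt x0 v z l th) (hs μ) k → ∀ w ∈ W, k * w * k⁻¹ ∈ W :=
    fun k hk w hw => C.nice_big hh _ hk hw
  have hsW : ∀ ρ, ∀ w ∈ W, hs ρ * w * (hs ρ)⁻¹ ∈ W := fun ρ w hw => hnice _ (L.nice_hs D μ ρ) w hw
  have hXc : ∀ {x w : G}, x ∈ Xs x0 → w ∈ W → w * x = x * w := fun {x w} hx hw =>
    hdbl.WP w hw x (X_le_V.trans (V_le_Q.trans Q_le_Pt) hx)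
  have hBG : ∀ w ∈ W, t * (w * t * w⁻¹) ∈ Xs x0 := fun w hw => by
    obtain ⟨h1, -⟩ := (C.mem_Wbig hh _).1 hw
    exact h1.2
  -- the displacement is a homomorphism
  have hd : ∀ w ∈ W, ∀ w' ∈ W, (w * w')⁻¹ * (t * (w * w') * t) = w⁻¹ * (t * w * t) * (w'⁻¹ * (t * w' * t)) := by
    intro w hw w' hw'
    have h1 := hdbl.brk w hw
    have h2 := hXc h1 hw'
    have h3 : w'⁻¹ * (w⁻¹ * (t * w * t)) = w⁻¹ * (t * w * t) * w'⁻¹ := by
      set x := w⁻¹ * (t * w * t)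
      rw [inv_mul_eq_iff_eq_mul, ← mul_assoc, h2, mul_inv_cancel_right]
    calc (w * w')⁻¹ * (t * (w * w') * t) = w'⁻¹ * w⁻¹ * t * w * 1 * w' * t := by group
      _ = w'⁻¹ * w⁻¹ * t * w * (t * t) * w' * t := by rw [D.tt]
      _ = (w'⁻¹ * (w⁻¹ * (t * w * t))) * (t * w' * t) := by group
      _ = _ := by rw [h3]; group
  obtain ⟨w1, hw1, hw1d⟩ := hdbl.surj (x0 1) (L.x0_mem 1)
  obtain ⟨κ, hκ⟩ := L.exists_kappa_BG D hn1 hn2 hn3 hnt (hdbl.WP w1 hw1) (hBG w1 hw1)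
  obtain ⟨c0, hc0⟩ := L.mem_X.1 (C.sq_mem (show w1 ∈ C.BG from ((C.mem_Wbig hh _).1 hw1).1))
  -- every element of `W` in terms of `w1`
  have hex : ∀ w ∈ W, ∀ a, w⁻¹ * (t * w * t) = x0 a → a ≠ 0 → ∃ β : Fˣ, (β : F) ^ 2 = a ∧
      ∃ y ∈ Xs x0, w = hs β * w1 * (hs β)⁻¹ * y := by
    intro w hw a ha ha0
    obtain ⟨β, hβ⟩ := L.exists_sqrt_unit (Units.mk0 a ha0)
    have hβ' : (β : F) ^ 2 = a := by rw [← Units.val_pow_eq_pow_val, hβ, Units.val_mk0]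
    refine ⟨β, hβ', ?_⟩
    have hw' := hsW β w1 hw1
    set w' := hs β * w1 * (hs β)⁻¹ with hw'd
    have h1 : w'⁻¹ * (t * w' * t) = x0 a := by
      have e1 : (hs β)⁻¹ * t = t * (hs β)⁻¹ := by
        rw [inv_mul_eq_iff_eq_mul, ← mul_assoc, ← D.th', mul_inv_cancel_right]
      calc w'⁻¹ * (t * w' * t) = hs β * w1⁻¹ * ((hs β)⁻¹ * t) * hs β * w1 * ((hs β)⁻¹ * t) := by
            rw [hw'd]; group
        _ = hs β * (w1⁻¹ * (t * w1 * t)) * (hs β)⁻¹ := by rw [e1]; group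
        _ = x0 a := by rw [hw1d, D.hs_x0, mul_one, hβ']
    refine ⟨w'⁻¹ * w, ?_, by group⟩
    apply hdbl.cent _ (mul_mem (inv_mem hw') hw)
    have h2 := hd _ (inv_mem hw') _ hw
    have h3 := hd _ hw' _ (inv_mem hw')
    rw [mul_inv_cancel, inv_one, one_mul, mul_one, D.tt, h1] at h3
    have h4 : w'⁻¹⁻¹ * (t * w'⁻¹ * t) = x0 a := by
      rw [← inv_of_add L.two L.x0_add, eq_inv_iff_mul_eq_one]
      have h5 := L.V2 (z := z) (X_le_V (v := v) (L.x0_mem a))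
      calc w'⁻¹⁻¹ * (t * w'⁻¹ * t) * x0 a = (x0 a)⁻¹ * (x0 a * (w'⁻¹⁻¹ * (t * w'⁻¹ * t))) * x0 a := by group
        _ = 1 := by rw [← h3]; group
    rw [h4, ha, self_of_add L.two L.x0_add] at h2
    have h5 : t * (w'⁻¹ * w) * t = w'⁻¹ * w := by
      rw [inv_mul_eq_one] at h2; exact h2.symm
    calc t * (w'⁻¹ * w) = t * (w'⁻¹ * w) * t * t⁻¹ := by group
      _ = w'⁻¹ * w * t := by rw [h5, inv_eq_of_mul_eq_one_left D.tt]
  have hX1 : ∀ w ∈ W, ∀ a, w⁻¹ * (t * w * t) = x0 a → a = 0 → w ∈ Xs x0 := by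
    intro w hw a ha ha0
    apply hdbl.cent w hw
    rw [ha0, zero_of_add L.x0_add, inv_mul_eq_one] at ha
    calc t * w = t * w * t * t⁻¹ := by group
      _ = w * t := by rw [← ha, inv_eq_of_mul_eq_one_left D.tt]
  have hsq : ∀ w ∈ W, ∀ a, w⁻¹ * (t * w * t) = x0 a → w * w = x0 (c0 * a) := by
    intro w hw a ha
    by_cases ha0 : a = 0
    · rw [ha0, mul_zero, zero_of_add L.x0_add]
      exact L.V2 (z := z) (X_le_V (v := v) (hX1 w hw a ha ha0))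
    · obtain ⟨β, hβ, y, hy, e⟩ := hex w hw a ha ha0
      have h1 := hXc hy (hsW β w1 hw1)
      have h2 := L.V2 (z := z) (X_le_V (v := v) hy)
      rw [e]
      calc hs β * w1 * (hs β)⁻¹ * y * (hs β * w1 * (hs β)⁻¹ * y)
          = hs β * w1 * (hs β)⁻¹ * y * (y * (hs β * w1 * (hs β)⁻¹)) := by rw [h1]
        _ = hs β * w1 * (hs β)⁻¹ * (y * y) * (hs β * w1 * (hs β)⁻¹) := by group
        _ = hs β * (w1 * w1) * (hs β)⁻¹ := by rw [h2]; group
        _ = x0 (c0 * a) := by rw [hc0, D.hs_x0, hβ, mul_comm]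
  refine ⟨μ, W, κ, c0, ⟨hdbl, ?_, hsq, ?_, hsW⟩, hnice⟩
  · intro w hw w' hw'
    obtain ⟨a, ha⟩ := L.mem_X.1 (hdbl.brk w hw)
    obtain ⟨a', ha'⟩ := L.mem_X.1 (hdbl.brk w' hw')
    have h1 := hsq w hw a ha
    have h2 := hsq w' hw' a' ha'
    have h3 := hsq (w * w') (mul_mem hw hw') (a + a') (by rw [hd w hw w' hw', ha, ha', L.x0_add])
    rw [mul_add, L.x0_add, ← h1, ← h2] at h3
    have h4 : w * (w' * w) * w' = w * (w * w') * w' := by
      calc w * (w' * w) * w' = w * w' * (w * w') := by group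
        _ = w * w * (w' * w') := h3
        _ = _ := by group
    exact (mul_left_cancel (mul_right_cancel h4)).symm
  · intro w hw a ha k u
    by_cases ha0 : a = 0
    · rw [ha0, mul_zero, zero_mul, zero_of_add (L.v_add k), one_mul,
        L.XP (hX1 w hw a ha ha0) (c_mem k u : c k u ∈ Ps x0 v z c l th), mul_inv_cancel_right]
    · obtain ⟨β, hβ, y, hy, e⟩ := hex w hw a ha ha0
      have h1 := L.XP (v := v) (z := z) (l := l) (th := th) hy (c_mem k u)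
      have h2 := D.hs_c β k u
      have h3 : (hs β)⁻¹ * c k u = c k u * (hs β)⁻¹ := by
        rw [inv_mul_eq_iff_eq_mul, ← mul_assoc, h2, mul_inv_cancel_right]
      rw [e]
      calc hs β * w1 * (hs β)⁻¹ * y * c k u * (hs β * w1 * (hs β)⁻¹ * y)⁻¹
          = hs β * w1 * (hs β)⁻¹ * (y * c k u) * y⁻¹ * hs β * w1⁻¹ * (hs β)⁻¹ := by group
        _ = hs β * w1 * ((hs β)⁻¹ * c k u) * hs β * w1⁻¹ * (hs β)⁻¹ := by rw [h1]; group
        _ = hs β * (w1 * c k u * w1⁻¹) * (hs β)⁻¹ := by rw [h3]; group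
        _ = (hs β * v k (κ * u) * (hs β)⁻¹) * (hs β * c k u) * (hs β)⁻¹ := by rw [hκ]; group
        _ = v k (κ * a * u) * c k u := by
          rw [h2, mul_assoc _ (c k u * hs β), mul_inv_cancel_right, D.hs_v, hβ]
          congr 2; ring

end

end Cfsg.Agent.OddHalf.D7F4Ex.Loc

end
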